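/-
Helper library (helper24): Hall π-subgroups of solvable groups (in the `Cfsg.IsPiHall` form), and
uniqueness lemmas for normal Hall subgroups.
-/
import Cfsg.Prelude.Def_OddOrderLocal
import Cfsg.Agent.S0003

set_option autoImplicit false
set_option linter.unusedSimpArgs false
set_option linter.unusedVariables false
set_option linter.style.haveILetI false

namespace Cfsg.Agent.Lib.Helper24

variable {G : Type*} [Group G]

/-- Splitting a positive integer into its `π`-part and its `π'`-part. -/
theorem exists_pi_decomposition (π : Set ℕ) (N : ℕ) (hN : N ≠ 0) :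
    ∃ m n : ℕ, N = m * n ∧ (∀ q : ℕ, q.Prime → q ∣ m → q ∈ π) ∧
      (∀ q : ℕ, q.Prime → q ∣ n → q ∉ π) := by
  classical
  induction N using Nat.recOnMul with
  | zero => exact absurd rfl hN
  | one =>
    refine ⟨1, 1, rfl, ?_, ?_⟩ <;>
    · intro q hq h
      exact absurd (Nat.dvd_one.1 h) hq.one_lt.ne'
  | prime p hp =>
    by_cases h : p ∈ π
    · refine ⟨p, 1, (mul_one p).symm, ?_, ?_⟩
      · intro q hq hd
        rwa [(Nat.prime_dvd_prime_iff_eq hq hp).1 hd]
      · intro q hq h
        exact absurd (Nat.dvd_one.1 h) hq.one_lt.ne'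
    · refine ⟨1, p, (one_mul p).symm, ?_, ?_⟩
      · intro q hq h
        exact absurd (Nat.dvd_one.1 h) hq.one_lt.ne'
      · intro q hq hd
        rwa [(Nat.prime_dvd_prime_iff_eq hq hp).1 hd]
  | mul a b iha ihb =>
    have ha : a ≠ 0 := fun h => hN (by rw [h, zero_mul])
    have hb : b ≠ 0 := fun h => hN (by rw [h, mul_zero])
    obtain ⟨m1, n1, e1, h1, h1'⟩ := iha ha
    obtain ⟨m2, n2, e2, h2, h2'⟩ := ihb hb
    refine ⟨m1 * m2, n1 * n2, by rw [e1, e2]; ring, ?_, ?_⟩
    · intro q hq hd
      rcases (Nat.Prime.dvd_mul hq).1 hd with h | h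
      · exact h1 q hq h
      · exact h2 q hq h
    · intro q hq hd
      rcases (Nat.Prime.dvd_mul hq).1 hd with h | h
      · exact h1' q hq h
      · exact h2' q hq h

/-- **Hall's theorem** (existence), in the `IsPiHall` form. -/
theorem exists_isPiHall [Finite G] [Group.IsSolvable G] (π : Set ℕ) :
    ∃ H : Subgroup G, Cfsg.IsPiHall π H := by
  obtain ⟨m, n, hmn, hm, hn⟩ := exists_pi_decomposition π (Nat.card G) Nat.card_pos.ne'
  have hcop : m.Coprime n := Nat.coprime_of_dvd fun k hk h1 h2 => hn k hk h2 (hm k hk h1)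
  obtain ⟨H, hH⟩ := Cfsg.Agent.S0003.result m n hmn hcop
  refine ⟨H, fun q hq hd => hm q hq (hH ▸ hd), fun q hq hqπ hd => ?_⟩
  have h1 := H.card_mul_index
  rw [hH, hmn] at h1
  have hm0 : 0 < m := Nat.pos_of_ne_zero fun h => by
    rw [h, zero_mul] at hmn; exact Nat.card_pos.ne' hmn
  have h2 : H.index = n := Nat.eq_of_mul_eq_mul_left hm0 h1
  exact hn q hq (h2 ▸ hd) hqπ

theorem IsPiHall.coprime_card_index [Finite G] {π : Set ℕ} {H : Subgroup G} (hH : Cfsg.IsPiHall π H) :
    (Nat.card H).Coprime H.index :=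
  Nat.coprime_of_dvd fun k hk h1 h2 => hH.2 k hk (hH.1 k hk h1) h2

/-- An element normalizing `H` whose order is coprime to the index of `H` lies in `H`. -/
theorem mem_of_mem_normalizer_of_coprime_index (H : Subgroup G) (x : G)
    (hx : x ∈ Subgroup.normalizer (H : Set G)) (hcop : (H.index).Coprime (orderOf x)) : x ∈ H := by
  haveI : (H.subgroupOf (Subgroup.normalizer (H : Set G))).Normal := Subgroup.normal_in_normalizer
  have h1 := Subgroup.pow_index_mem (H.subgroupOf (Subgroup.normalizer (H : Set G))) ⟨x, hx⟩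
  rw [Subgroup.mem_subgroupOf] at h1
  have h2 : H.relIndex (Subgroup.normalizer (H : Set G)) ∣ H.index :=
    ⟨_, (Subgroup.relIndex_mul_index Subgroup.le_normalizer).symm⟩
  have h3 : x ^ H.relIndex (Subgroup.normalizer (H : Set G)) ∈ H := by
    have h4 : x ^ (H.subgroupOf (Subgroup.normalizer (H : Set G))).index ∈ H := by simpa using h1
    exact h4
  obtain ⟨m, hm⟩ := exists_pow_eq_self_of_coprime (Nat.Coprime.of_dvd_left h2 hcop)
  rw [← hm]; exact H.pow_mem h3 m

/-- A normal subgroup whose order is coprime to its index is characteristic. -/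
theorem characteristic_of_normal_of_coprime [Finite G] (H : Subgroup G) [H.Normal]
    (hcop : (Nat.card H).Coprime H.index) : H.Characteristic := by
  rw [Subgroup.characteristic_iff_map_le]
  rintro φ _ ⟨h, hh, rfl⟩
  apply mem_of_mem_normalizer_of_coprime_index H _ (by rw [Subgroup.normalizer_eq_top]; trivial)
  have h1 : orderOf (φ.toMonoidHom h) = orderOf h := φ.orderOf_eq h
  rw [h1]
  have h2 : orderOf h ∣ Nat.card H := by
    have := orderOf_dvd_natCard (⟨h, hh⟩ : H)
    rwa [← Subgroup.orderOf_coe] at this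
  exact (Nat.Coprime.of_dvd_left h2 hcop).symm

end Cfsg.Agent.Lib.Helper24
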