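/-
Helper library (helper24): general lemmas for the proof of BG Lemma 9.5 (S1402).
-/
import Cfsg.Agent.Lib.Helper24.BG10c
import Cfsg.Agent.Lib.Helper24.Hall
import Cfsg.Agent.Lib.Helper22.Generation
import Cfsg.Agent.Lib.Helper1.CoprimeSylow
import Cfsg.Agent.Lib.Helper1.Hall
import Cfsg.Agent.Lib.Helper1.MinimalNormal
import Cfsg.Agent.Lib.Helper22.BG.Basic

set_option autoImplicit false
set_option linter.unusedSimpArgs false
set_option linter.unusedVariables false
set_option linter.style.haveILetI false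

namespace Cfsg.Agent.Lib.Helper24

open Cfsg.Agent.Lib.Helper34
open scoped commutatorElement Pointwise

variable {G : Type*} [Group G]

theorem card_adjoin_le [Finite G] {E : Subgroup G} {f : G}
    (hf : f ∈ Subgroup.centralizer (E : Set G)) {n : ℕ} (hn : 0 < n) (hfn : f ^ n = 1) :
    Nat.card (adjoin E f hf) ≤ Nat.card E * n := by
  have hsurj : Function.Surjective (fun x : E × Fin n =>
      (⟨x.1.1 * f ^ ((x.2.1 : ℕ) : ℤ), ⟨x.1.1, x.1.2, _, rfl⟩⟩ : adjoin E f hf)) := by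
    rintro ⟨_, e, he, i, rfl⟩
    have hn' : (n : ℤ) ≠ 0 := by exact_mod_cast hn.ne'
    have h0 : 0 ≤ i % (n : ℤ) := Int.emod_nonneg i hn'
    have h1 : i % (n : ℤ) < n := Int.emod_lt_of_pos i (by exact_mod_cast hn)
    refine ⟨⟨⟨e, he⟩, ⟨(i % (n : ℤ)).toNat, by omega⟩⟩, ?_⟩
    apply Subtype.ext
    show e * f ^ (((i % (n : ℤ)).toNat : ℕ) : ℤ) = e * f ^ i
    rw [Int.toNat_of_nonneg h0]
    congr 1
    exact (zpow_eq_zpow_emod i (by rw [zpow_natCast]; exact hfn)).symm
  calc Nat.card (adjoin E f hf) ≤ Nat.card (E × Fin n) := Nat.card_le_card_of_surjective _ hsurj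
    _ = Nat.card E * n := by rw [Nat.card_prod, Nat.card_eq_fintype_card (α := Fin n), Fintype.card_fin]

theorem le_of_two [Finite G] {p : ℕ} [Fact p.Prime] {E X W : Subgroup G}
    (hEc : IsMulCommutative E) (hEp : ∀ a ∈ E, a ^ p = 1)
    (hX : ¬ p ∣ Nat.card X) (hEX : E ≤ Subgroup.normalizer (X : Set G))
    {a b : G} (ha : a ∈ E) (hb : b ∈ E)
    (h1 : X ⊓ Subgroup.centralizer {b} ≤ W)
    (h2 : ∀ i : ℕ, X ⊓ Subgroup.centralizer {a * b ^ i} ≤ W) : X ≤ W :=
  (Cfsg.Agent.Lib.Helper22.le_genTwo E X (isPGroup_of_exponent hEp) hX hEX a b ha hb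
    (congrArg Subtype.val (hEc.is_comm.comm ⟨a, ha⟩ ⟨b, hb⟩)) (hEp a ha) (hEp b hb)).trans
    (sup_le h1 (iSup_le h2))

/-- Generation by the centralizers of the rank two subgroups of an elementary abelian group of rank
at least three. -/
theorem gen_pairs [Finite G] {p : ℕ} [Fact p.Prime] {E X W : Subgroup G}
    (hEc : IsMulCommutative E) (hEp : ∀ a ∈ E, a ^ p = 1) (hcard : p ^ 2 < Nat.card E)
    (hX : ¬ p ∣ Nat.card X) (hEX : E ≤ Subgroup.normalizer (X : Set G))
    (hW : ∀ e ∈ E, e ≠ 1 → ∀ c ∈ E, c ∉ Subgroup.zpowers e →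
      X ⊓ Subgroup.centralizer {e} ⊓ Subgroup.centralizer {c} ≤ W) : X ≤ W := by
  have hpp : p.Prime := Fact.out
  have hcomm : ∀ a ∈ E, ∀ b ∈ E, a * b = b * a := fun a ha b hb =>
    congrArg Subtype.val (hEc.is_comm.comm ⟨a, ha⟩ ⟨b, hb⟩)
  have hout : ∀ F : Subgroup G, Nat.card F ≤ p ^ 2 → ∃ c ∈ E, c ∉ F := by
    intro F hF
    by_contra h
    push Not at h
    have := Subgroup.card_le_of_le (show E ≤ F from h)
    omega
  have hz : ∀ e ∈ E, Nat.card (Subgroup.zpowers e) ≤ p := by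
    intro e he
    rw [Nat.card_zpowers]; exact orderOf_le_of_pow_eq_one hpp.pos (hEp e he)
  have hpsq : p ≤ p ^ 2 := by nlinarith [hpp.one_lt]
  have key : ∀ e ∈ E, e ≠ 1 → X ⊓ Subgroup.centralizer {e} ≤ W := by
    intro e he he1
    obtain ⟨c2, hc2, hc2e⟩ := hout (Subgroup.zpowers e) ((hz e he).trans hpsq)
    have hc2c : c2 ∈ Subgroup.centralizer ((Subgroup.zpowers e : Subgroup G) : Set G) := by
      rw [centralizer_zpowers_eq, Subgroup.mem_centralizer_singleton_iff]
      exact hcomm c2 hc2 e he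
    obtain ⟨c1, hc1, hc1e⟩ := hout (adjoin (Subgroup.zpowers e) c2 hc2c)
      ((card_adjoin_le hc2c hpp.pos (hEp c2 hc2)).trans (by
        have := hz e he
        calc Nat.card (Subgroup.zpowers e) * p ≤ p * p := Nat.mul_le_mul_right p this
          _ = p ^ 2 := by ring))
    have hX' : ¬ p ∣ Nat.card (X ⊓ Subgroup.centralizer {e} : Subgroup G) := fun h =>
      hX (h.trans (Subgroup.card_dvd_of_le inf_le_left))
    have hEX' : E ≤ Subgroup.normalizer ((X ⊓ Subgroup.centralizer {e} : Subgroup G) : Set G) :=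
      fun t ht => Cfsg.Agent.Lib.Helper22.mem_normalizer_inf_centralizer_singleton (hEX ht)
        (hcomm t ht e he)
    apply le_of_two hEc hEp hX' hEX' hc1 hc2
    · exact hW e he he1 c2 hc2 hc2e
    · intro i
      apply hW e he he1 (c1 * c2 ^ i) (E.mul_mem hc1 (E.pow_mem hc2 i))
      intro hmem
      apply hc1e
      refine ⟨c1 * c2 ^ i, hmem, -(i : ℤ), ?_⟩
      rw [zpow_neg, zpow_natCast]; group
  obtain ⟨b, hb, hb1⟩ := hout ⊥ (by rw [Subgroup.card_bot]; exact Nat.one_le_pow _ _ hpp.pos)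
  have hb1' : b ≠ 1 := fun h => hb1 (by rw [h]; exact Subgroup.one_mem _)
  obtain ⟨a, ha, hab⟩ := hout (Subgroup.zpowers b) ((hz b hb).trans hpsq)
  apply le_of_two hEc hEp hX hEX ha hb (key b hb hb1')
  intro i
  apply key _ (E.mul_mem ha (E.pow_mem hb i))
  intro h
  apply hab
  have : a = (b ^ i)⁻¹ := eq_inv_of_mul_eq_one_left h
  rw [this]
  exact Subgroup.inv_mem _ (Subgroup.pow_mem _ (Subgroup.mem_zpowers b) i)

theorem inf_ne_bot_of_card [Finite G] {p : ℕ} (hp : p.Prime) {E E1 E2 : Subgroup G} (h1 : E1 ≤ E)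
    (h2 : E2 ≤ E) (hE : Nat.card E = p ^ 3) (hc1 : p ^ 2 ≤ Nat.card E1)
    (hc2 : p ^ 2 ≤ Nat.card E2) : E1 ⊓ E2 ≠ ⊥ := by
  intro hbot
  have h3 : (E2 ⊓ E1).relIndex E1 = E2.relIndex E1 := Subgroup.inf_relIndex_right E2 E1
  rw [inf_comm, hbot, Subgroup.relIndex_bot_left] at h3
  have h4 : E2.relIndex E * Nat.card E2 = Nat.card E := by
    have := Subgroup.relIndex_mul_relIndex ⊥ E2 E bot_le h2
    rw [Subgroup.relIndex_bot_left, Subgroup.relIndex_bot_left] at this
    rw [mul_comm]; exact this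
  have h5 : E2.relIndex E ≠ 0 := by
    intro h; rw [h, zero_mul] at h4
    exact absurd h4.symm Nat.card_pos.ne'
  have h6 : E2.relIndex E1 ≤ E2.relIndex E := Subgroup.relIndex_le_of_le_right h1 h5
  have h7 : p ^ 2 * p ^ 2 ≤ p ^ 3 := by
    calc p ^ 2 * p ^ 2 ≤ E2.relIndex E * Nat.card E2 :=
          Nat.mul_le_mul (hc1.trans (h3 ▸ h6)) hc2
      _ = p ^ 3 := by rw [h4, hE]
  have h8 : p ^ 3 < p ^ 2 * p ^ 2 := by
    rw [← pow_add]; exact Nat.pow_lt_pow_right hp.one_lt (by norm_num)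
  omega

/-- In a cyclic group, the elements of order dividing a prime `s` lie in any subgroup of order `s`. -/
theorem mem_zpowers_of_isCyclic [Finite G] {C : Subgroup G} (hC : IsCyclic C) {s : ℕ} (hs : s.Prime)
    {x y : G} (hx : x ∈ C) (hy : y ∈ C) (hxo : orderOf x = s) (hys : y ^ s = 1) :
    y ∈ Subgroup.zpowers x := by
  classical
  haveI : Fintype C := Fintype.ofFinite C
  have h1 := IsCyclic.card_pow_eq_one_le (α := C) hs.pos
  by_contra hne
  set x' : C := ⟨x, hx⟩ with hx'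
  set y' : C := ⟨y, hy⟩ with hy'
  have hxo' : orderOf x' = s := by rw [hx', Subgroup.orderOf_mk]; exact hxo
  set U : Finset C := (Finset.range s).image (fun i => x' ^ i) with hU
  have hUcard : U.card = s := by
    rw [hU, Finset.card_image_of_injOn, Finset.card_range]
    intro i hi j hj hij
    apply pow_injOn_Iio_orderOf (x := x')
    · rw [hxo']; exact Finset.mem_range.1 hi
    · rw [hxo']; exact Finset.mem_range.1 hj
    · exact hij
  have hyU : y' ∉ U := by
    intro h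
    obtain ⟨i, -, hi⟩ := Finset.mem_image.1 h
    apply hne
    have : x ^ i = y := congrArg Subtype.val hi
    rw [← this]
    exact Subgroup.pow_mem _ (Subgroup.mem_zpowers x) i
  have hsub : insert y' U ⊆ Finset.univ.filter (fun a : C => a ^ s = 1) := by
    intro a ha
    rw [Finset.mem_filter]
    refine ⟨Finset.mem_univ _, ?_⟩
    rcases Finset.mem_insert.1 ha with rfl | ha
    · exact Subtype.ext hys
    · obtain ⟨i, -, rfl⟩ := Finset.mem_image.1 ha
      rw [← pow_mul, mul_comm, pow_mul, ← hxo', pow_orderOf_eq_one, one_pow]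
  have h2 := Finset.card_le_card hsub
  rw [Finset.card_insert_of_notMem hyU, hUcard] at h2
  omega

theorem hall_frattini_rel' [Finite G] {K P : Subgroup G} (hK : Group.IsSolvable K) (hPK : P ≤ K)
    (hHall : (Nat.card P).Coprime (P.relIndex K)) {g : G}
    (hg : g ∈ Subgroup.normalizer (K : Set G)) :
    ∃ k ∈ K, k * g ∈ Subgroup.normalizer (P : Set G) := by
  have hgK := Cfsg.Agent.Lib.Helper1.conj_smul_eq_of_mem_normalizer hg
  have h1 : MulAut.conj g • P ≤ K := by
    conv_rhs => rw [← hgK]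
    exact Subgroup.pointwise_smul_le_pointwise_smul_iff.2 hPK
  obtain ⟨l, hl, hl'⟩ := Cfsg.Agent.Lib.Helper1.hall_conj_rel K hK P (MulAut.conj g • P) hPK h1 hHall
    (Cfsg.Agent.Lib.Helper1.card_conj_smul g P)
  refine ⟨l⁻¹, K.inv_mem hl, ?_⟩
  rw [Cfsg.Agent.Lib.Helper1.mem_normalizer_iff_conj_smul, Cfsg.Agent.Lib.Helper1.conj_mul_smul,
    Cfsg.Agent.Lib.Helper1.conj_inv_smul_eq_iff, hl']

/-- Coprime action on a solvable group: existence of an invariant Hall `π`-subgroup. -/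
theorem exists_invariant_piHall [Finite G] (π : Set ℕ) (A K : Subgroup G)
    (hAK : A ≤ Subgroup.normalizer (K : Set G)) (hcop : (Nat.card A).Coprime (Nat.card K))
    (hK : Group.IsSolvable K) :
    ∃ H : Subgroup G, Cfsg.IsPiHallOf π H K ∧ A ≤ Subgroup.normalizer (H : Set G) := by
  haveI := hK
  obtain ⟨H0, hH0⟩ := exists_isPiHall (G := K) π
  set P : Subgroup G := H0.map K.subtype with hPdef
  have hPK : P ≤ K := Subgroup.map_subtype_le H0
  have hcardP : Nat.card P = Nat.card H0 :=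
    Nat.card_congr (H0.equivMapOfInjective K.subtype K.subtype_injective).symm.toEquiv
  have hrel : P.relIndex K = H0.index := relIndex_map_subtype K H0
  have hHall : (Nat.card P).Coprime (P.relIndex K) := by
    rw [hcardP, hrel]; exact IsPiHall.coprime_card_index hH0
  let R : Subgroup G := Subgroup.normalizer (P : Set G) ⊓ (A ⊔ K)
  have hRK : R ⊔ K = A ⊔ K := by
    apply le_antisymm (sup_le inf_le_right le_sup_right)
    refine sup_le ?_ le_sup_right
    intro a ha
    obtain ⟨k, hk, hk'⟩ := hall_frattini_rel' hK hPK hHall (hAK ha)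
    have h1 : a = k⁻¹ * (k * a) := by group
    rw [h1]
    exact Subgroup.mul_mem _ (Subgroup.mem_sup_right (K.inv_mem hk)) (Subgroup.mem_sup_left
      ⟨hk', Subgroup.mul_mem _ (Subgroup.mem_sup_right hk) (Subgroup.mem_sup_left ha)⟩)
  obtain ⟨k, hk, hk'⟩ := Cfsg.Agent.Lib.Helper1.exists_conj_le_of_sup_eq A K R hAK hcop (Or.inr hK) hRK
  have hkK : MulAut.conj k⁻¹ • K = K := Subgroup.conj_smul_eq_self_of_mem (K.inv_mem hk)
  refine ⟨MulAut.conj k⁻¹ • P, ⟨?_, ?_, ?_⟩, ?_⟩
  · conv_rhs => rw [← hkK]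
    exact Subgroup.pointwise_smul_le_pointwise_smul_iff.2 hPK
  · intro q hq hd
    rw [Cfsg.Agent.Lib.Helper1.card_conj_smul, hcardP] at hd
    exact hH0.1 q hq hd
  · intro q hq hqπ
    rw [← hkK, Cfsg.Agent.Lib.Helper1.relIndex_conj_smul, hrel]
    exact hH0.2 q hq hqπ
  · rw [Cfsg.Agent.Lib.Helper1.le_normalizer_conj_smul_iff, inv_inv]
    exact hk'.trans inf_le_left

/-- A nontrivial solvable subgroup has a nontrivial normal `r`-subgroup for some prime `r`. -/
theorem exists_normal_pSubgroup_rel [Finite G] {Y : Subgroup G} (hs : Group.IsSolvable Y) (hne : Y ≠ ⊥) :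
    ∃ (r : ℕ) (N : Subgroup G), r.Prime ∧ N ≤ Y ∧ N ≠ ⊥ ∧ IsPGroup r N ∧
      Y ≤ Subgroup.normalizer (N : Set G) := by
  haveI := hs
  haveI : Nontrivial Y := (Subgroup.nontrivial_iff_ne_bot Y).2 hne
  obtain ⟨r, N, hr, hN, hN1, hNp, -, -⟩ :=
    Cfsg.Agent.Lib.Helper1.exists_normal_pSubgroup_of_solvable (G := Y)
  refine ⟨r, N.map Y.subtype, hr, Subgroup.map_subtype_le N, ?_, ?_, ?_⟩
  · intro h
    exact hN1 ((Subgroup.map_eq_bot_iff_of_injective N Y.subtype_injective).1 h)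
  · exact hNp.map _
  · exact Cfsg.Agent.Lib.Helper22.BG.le_normalizer_map_subtype N hN

end Cfsg.Agent.Lib.Helper24
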