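/-
Helper library (helper24): Step 3 of the proof of BG Lemma 9.5 (S1402).
For `A ∈ SCN_3(P)` not contained in a unique maximal subgroup and a maximal subgroup `H` with
`A ≤ H'` we produce a prime `s ≠ p` such that `S = O_s(H)` has rank at least three and a list of
properties of `(H, s, S)`.
-/
import Cfsg.Agent.Lib.Helper24.U95a
import Cfsg.Agent.Lib.Helper10.BG95a
import Cfsg.Agent.Lib.Helper47.PCore
import Cfsg.Agent.S1399
import Cfsg.Agent.S1400
import Cfsg.Agent.S1401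

set_option autoImplicit false
set_option linter.unusedSimpArgs false
set_option linter.unusedVariables false
set_option linter.unusedSectionVars false
set_option linter.style.haveILetI false

namespace Cfsg.Agent.Lib.Helper24

open Cfsg.Agent.Lib.Helper34
open scoped commutatorElement Pointwise

variable {G : Type*} [Group G]

theorem isMulCommutative_of_le' {A B : Subgroup G} (hB : IsMulCommutative B) (hAB : A ≤ B) :
    IsMulCommutative A :=
  ⟨⟨fun x y => Subtype.ext (show x.1 * y.1 = y.1 * x.1 from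
    congrArg Subtype.val (hB.is_comm.comm ⟨x.1, hAB x.2⟩ ⟨y.1, hAB y.2⟩))⟩⟩

/-- The derived group of a group normalizing a cyclic group centralizes it. -/
theorem commutator_le_centralizer_of_zpowers {H : Subgroup G} {z : G}
    (hH : H ≤ Subgroup.normalizer ((Subgroup.zpowers z : Subgroup G) : Set G)) :
    ⁅H, H⁆ ≤ Subgroup.centralizer ((Subgroup.zpowers z : Subgroup G) : Set G) := by
  rw [Subgroup.commutator_le]
  intro h1 hh1 h2 hh2
  have key : ∀ h ∈ H, ∃ i : ℤ, h * z * h⁻¹ = z ^ i := by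
    intro h hh
    have := (Subgroup.mem_normalizer_iff.1 (hH hh) z).1 (Subgroup.mem_zpowers z)
    obtain ⟨i, hi⟩ := Subgroup.mem_zpowers_iff.1 this
    exact ⟨i, hi.symm⟩
  obtain ⟨i, hi⟩ := key h1⁻¹ (H.inv_mem hh1)
  obtain ⟨j, hj⟩ := key h2⁻¹ (H.inv_mem hh2)
  rw [inv_inv] at hi hj
  have cz : ∀ (h : G) (k : ℤ), h⁻¹ * z ^ k * h = (h⁻¹ * z * h) ^ k := by
    intro h k
    have := conj_zpow (a := h⁻¹) (b := z) (i := k)
    rw [inv_inv] at this
    exact this.symm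
  have e1 : h1⁻¹ * (h2⁻¹ * z * h2) * h1 = z ^ (i * j) := by
    rw [hj, cz, hi, ← zpow_mul]
  have e2 : h2⁻¹ * (h1⁻¹ * z * h1) * h2 = z ^ (i * j) := by
    rw [hi, cz, hj, ← zpow_mul, mul_comm]
  have e3 : h1⁻¹ * (h2⁻¹ * z * h2) * h1 = h2⁻¹ * (h1⁻¹ * z * h1) * h2 := e1.trans e2.symm
  rw [centralizer_zpowers_eq, Subgroup.mem_centralizer_singleton_iff, commutatorElement_def]
  calc h1 * h2 * h1⁻¹ * h2⁻¹ * z
      = h1 * h2 * (h1⁻¹ * (h2⁻¹ * z * h2) * h1) * h1⁻¹ * h2⁻¹ := by group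
    _ = h1 * h2 * (h2⁻¹ * (h1⁻¹ * z * h1) * h2) * h1⁻¹ * h2⁻¹ := by rw [e3]
    _ = z * (h1 * h2 * h1⁻¹ * h2⁻¹) := by group

theorem mem_normalizer_sup {Y S : Subgroup G} {g : G}
    (h1 : g ∈ Subgroup.normalizer (Y : Set G)) (h2 : g ∈ Subgroup.normalizer (S : Set G)) :
    g ∈ Subgroup.normalizer ((Y ⊔ S : Subgroup G) : Set G) := by
  apply mem_normalizer_of_map_conj_eq
  rw [Subgroup.map_sup, map_conj_eq_self_of_mem_normalizer h1,
    map_conj_eq_self_of_mem_normalizer h2]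

theorem inf_cent_pair_le (e c : G) :
    Subgroup.centralizer ({e} : Set G) ⊓ Subgroup.centralizer ({c} : Set G) ≤
      Subgroup.centralizer ((Subgroup.closure ({e, c} : Set G) : Subgroup G) : Set G) := by
  intro x hx
  have h1 : Subgroup.closure ({e, c} : Set G) ≤ Subgroup.centralizer ({x} : Set G) := by
    rw [Subgroup.closure_le]
    rintro y (rfl | rfl)
    · exact Subgroup.mem_centralizer_singleton_iff.2
        (Subgroup.mem_centralizer_singleton_iff.1 hx.1).symm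
    · exact Subgroup.mem_centralizer_singleton_iff.2
        (Subgroup.mem_centralizer_singleton_iff.1 hx.2).symm
  rw [Subgroup.mem_centralizer_iff]
  intro y hy
  exact Subgroup.mem_centralizer_singleton_iff.1 (h1 hy)

theorem le_cent_singleton_of_mem {D E0 : Subgroup G} {a : G} (ha : a ∈ E0)
    (hD : D ≤ Subgroup.centralizer (E0 : Set G)) : D ≤ Subgroup.centralizer ({a} : Set G) :=
  hD.trans (Subgroup.centralizer_le (by
    intro x hx
    rw [Set.mem_singleton_iff] at hx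
    rw [hx]; exact ha))

/-- (F1) -/
theorem U95_F1 [Finite G] (hG : Cfsg.IsMinSimpleOddOrder G) {A : Subgroup G}
    (hAc : A ≤ Subgroup.centralizer (A : Set G)) (hnot : ¬ Cfsg.InUniqueMaximal A)
    {L E0 : Subgroup G} (hL : Cfsg.InUniqueMaximal L) (hE0A : E0 ≤ A) (hE0 : ¬ Cfsg.RankLE 1 E0)
    (hc : E0 ≤ Subgroup.centralizer (L : Set G)) : False := by
  have h1 := Cfsg.Agent.S1399.result hG L E0 hL hc hE0
  exact hnot (Cfsg.Agent.S1399.result hG E0 A h1 (hAc.trans (Subgroup.centralizer_le hE0A))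
    (fun h => hE0 (rankLE_mono hE0A h)))

theorem pair_facts [Finite G] {p : ℕ} [Fact p.Prime] {E : Subgroup G} (hEc : IsMulCommutative E)
    (hEp : ∀ a ∈ E, a ^ p = 1) {e c : G} (he : e ∈ E) (he1 : e ≠ 1) (hc : c ∈ E)
    (hce : c ∉ Subgroup.zpowers e) :
    Subgroup.closure ({e, c} : Set G) ≤ E ∧ p ^ 2 ≤ Nat.card (Subgroup.closure ({e, c} : Set G)) ∧
      ¬ Cfsg.RankLE 1 (Subgroup.closure ({e, c} : Set G)) := by
  have hpp : p.Prime := Fact.out
  have hle : Subgroup.closure ({e, c} : Set G) ≤ E := by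
    rw [Subgroup.closure_le]
    rintro y (rfl | rfl)
    · exact he
    · exact hc
  have hexp : ∀ a ∈ Subgroup.closure ({e, c} : Set G), a ^ p = 1 := fun a ha => hEp a (hle ha)
  have hlt : Subgroup.zpowers e < Subgroup.closure ({e, c} : Set G) := by
    refine lt_of_le_of_ne (Subgroup.zpowers_le.2 (Subgroup.subset_closure (by simp))) ?_
    intro h
    apply hce
    rw [h]
    exact Subgroup.subset_closure (by simp)
  have hcard : p ^ 1 < Nat.card (Subgroup.closure ({e, c} : Set G)) := by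
    have h1 := card_lt_of_lt hlt
    rwa [Nat.card_zpowers, orderOf_eq_prime (hEp e he) he1, ← pow_one p] at h1
  have h2 : p ^ 2 ≤ Nat.card (Subgroup.closure ({e, c} : Set G)) :=
    pow_succ_le_card_of_lt (isPGroup_of_exponent hexp) hcard
  exact ⟨hle, h2, Cfsg.Agent.Lib.Helper23U.not_rankLE_one_of hpp le_rfl
    ⟨isMulCommutative_of_le' hEc hle, hexp⟩ h2⟩

/-- The data of Step 3. -/
structure U95S (p : ℕ) (A H : Subgroup G) (s : ℕ) (S : Subgroup G) : Prop where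
  hG : Cfsg.IsMinSimpleOddOrder G
  hAc : A ≤ Subgroup.centralizer (A : Set G)
  hAp : IsPGroup p A
  hnot : ¬ Cfsg.InUniqueMaximal A
  hH : IsCoatom H
  hAH : A ≤ H
  hs : s.Prime
  hsp : s ≠ p
  hSs : IsPGroup s S
  hSH : S ≤ H
  hHS : H ≤ Subgroup.normalizer (S : Set G)
  hS3 : ¬ Cfsg.PRankLE s 2 S
  u3 : ∀ R : Subgroup G, R ≠ ⊤ → ¬ Cfsg.PRankLE s 2 R → Cfsg.InUniqueMaximal R
  u2 : ∀ B : Subgroup G, IsPGroup s B → ¬ IsCyclic B →
    ¬ Cfsg.PRankLE s 2 (Subgroup.centralizer (B : Set G)) → Cfsg.InUniqueMaximal B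

namespace U95S

variable [Finite G] {p : ℕ} [Fact p.Prime] {A H S : Subgroup G} {s : ℕ} [Fact s.Prime]

theorem coprime_of_le (D : U95S p A H s S) {X : Subgroup G} (hX : X ≤ A) :
    (Nat.card X).Coprime s := by
  obtain ⟨n, hn⟩ := IsPGroup.iff_card.1 (D.hAp.to_le hX)
  rw [hn]
  apply Nat.Coprime.pow_left
  exact (Nat.coprime_primes Fact.out D.hs).2 (Ne.symm D.hsp)

theorem not_dvd_of_isPGroup (D : U95S p A H s S) {X : Subgroup G} (hX : IsPGroup s X) :
    ¬ p ∣ Nat.card X := by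
  have hpp : p.Prime := Fact.out
  obtain ⟨n, hn⟩ := IsPGroup.iff_card.1 hX
  rw [hn]
  intro h
  exact D.hsp ((Nat.prime_dvd_prime_iff_eq hpp D.hs).1 (hpp.dvd_of_dvd_pow h)).symm

theorem S_uniq (D : U95S p A H s S) : Cfsg.InUniqueMaximal S :=
  D.u3 S (MS_isPGroup_ne_top D.hG D.hSs) D.hS3

/-- The dichotomy. -/
theorem dich (D : U95S p A H s S) {X R B : Subgroup G} (hR : IsPGroup s R)
    (hR3 : ¬ Cfsg.PRankLE s 2 R) (hXR : X ≤ Subgroup.normalizer (R : Set G))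
    (hcop : (Nat.card X).Coprime s) (hBR : B ≤ R) (hBc : IsMulCommutative B)
    (hBs : ∀ b ∈ B, b ^ s = 1) (hBcard : s ^ 1 < Nat.card B)
    (hXB : X ≤ Subgroup.centralizer (B : Set G)) :
    ∃ L : Subgroup G, Cfsg.InUniqueMaximal L ∧ L ≤ R ∧ X ≤ Subgroup.centralizer (L : Set G) := by
  have hBpg : IsPGroup s B := isPGroup_of_exponent hBs
  have hs2 : s ≠ 2 := MS_prime_ne_two D.hG (dvd_card_of_lt hBpg hBcard)
  by_cases hgood : ∀ x ∈ R, x ∈ Subgroup.centralizer (B : Set G) → x ^ s = 1 → x ∈ B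
  · have h1 := le_centralizer_of_centralizes_good s hs2 R B X hR hBR hXR hcop hgood hXB
    exact ⟨R, D.u3 R (MS_isPGroup_ne_top D.hG hR) hR3, le_rfl, Subgroup.le_centralizer_iff.1 h1⟩
  · push Not at hgood
    obtain ⟨x, hxP, hxc, hxp, hxB⟩ := hgood
    have hlt : B < adjoin B x hxc :=
      lt_of_le_of_ne (le_adjoin B x hxc) (fun h => hxB (h ▸ self_mem_adjoin B x hxc))
    have h1 : ¬ Cfsg.PRankLE s 2 (Subgroup.centralizer (B : Set G)) := by
      apply not_pRankLE_of_le (F := adjoin B x hxc)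
        (le_centralizer_of_comm (adjoin_comm hxc hBc) (le_adjoin B x hxc)) (adjoin_comm hxc hBc)
        (adjoin_pow hxc s hBs hxp)
      exact lt_of_le_of_lt (pow_succ_le_card_of_lt hBpg hBcard) (card_lt_of_lt hlt)
    have h2 : ¬ IsCyclic B :=
      Cfsg.Agent.Lib.Helper23U.not_isCyclic_of_elemAb hBs (by rwa [pow_one] at hBcard)
    exact ⟨B, D.u2 B hBpg h2 h1, hBR, hXB⟩

/-- (b1) -/
theorem b1 (D : U95S p A H s S) {E0 : Subgroup G} (hE0A : E0 ≤ A) (hE0 : ¬ Cfsg.RankLE 1 E0) :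
    Cfsg.PRankLE s 1 ↥(S ⊓ Subgroup.centralizer (E0 : Set G)) := by
  by_contra h
  obtain ⟨B, hBle, hBc, hBp, hBcard⟩ := exists_of_not_pRankLE h
  obtain ⟨L, hL, -, hXL⟩ := D.dich (X := E0) D.hSs D.hS3 (hE0A.trans (D.hAH.trans D.hHS))
    (D.coprime_of_le hE0A) (hBle.trans inf_le_left) hBc hBp hBcard
    (Subgroup.le_centralizer_iff.1 (hBle.trans inf_le_right))
  exact U95_F1 D.hG D.hAc D.hnot hL hE0A hE0 hXL

/-- (b2) -/
theorem b2 (D : U95S p A H s S) {a : G} (haA : a ∈ A) (ha1 : a ≠ 1) {Y : Subgroup G}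
    (hYs : IsPGroup s Y) (hYH : Y ≤ H) (hYa : Y ≤ Subgroup.centralizer ({a} : Set G))
    (hY : ¬ Cfsg.PRankLE s 1 Y) : Subgroup.centralizer ({a} : Set G) ≤ H := by
  obtain ⟨B, hBY, hBc, hBp, hBcard⟩ := exists_of_not_pRankLE hY
  have hR : IsPGroup s (Y ⊔ S : Subgroup G) :=
    IsPGroup.to_sup_of_normal_right' hYs D.hSs (hYH.trans D.hHS)
  have hR3 : ¬ Cfsg.PRankLE s 2 (Y ⊔ S : Subgroup G) := fun h => D.hS3 (pRankLE_mono le_sup_right h)
  have haY : a ∈ Subgroup.centralizer (Y : Set G) := by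
    rw [Subgroup.mem_centralizer_iff]
    intro y hy
    exact Subgroup.mem_centralizer_singleton_iff.1 (hYa hy)
  have haR : Subgroup.zpowers a ≤ Subgroup.normalizer ((Y ⊔ S : Subgroup G) : Set G) :=
    Subgroup.zpowers_le.2 (mem_normalizer_sup (centralizer_le_normalizer' Y haY)
      (D.hHS (D.hAH haA)))
  obtain ⟨L, hL, hLR, hXL⟩ := D.dich (X := Subgroup.zpowers a) hR hR3 haR
    (D.coprime_of_le (Subgroup.zpowers_le.2 haA)) (hBY.trans le_sup_left) hBc hBp hBcard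
    (Subgroup.zpowers_le.2 (Subgroup.centralizer_le hBY haY))
  haveI := MS_simple D.hG
  have hCtop : Subgroup.centralizer ({a} : Set G) ≠ ⊤ :=
    Cfsg.Agent.Lib.Helper23.centralizer_singleton_ne_top_of_simple D.hG.2.2.1 ha1
  refine le_of_inUniqueMaximal hL D.hH (hLR.trans (sup_le hYH D.hSH)) hCtop ?_
  intro l hl
  rw [Subgroup.mem_centralizer_singleton_iff]
  exact (Subgroup.mem_centralizer_iff.1 (hXL (Subgroup.mem_zpowers a))) l hl

theorem S_ne_bot (D : U95S p A H s S) : S ≠ ⊥ := by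
  intro h
  obtain ⟨F, hFS, -, -, hcard⟩ := exists_of_not_pRankLE D.hS3
  rw [h] at hFS
  rw [le_bot_iff.1 hFS, Subgroup.card_bot] at hcard
  have := Nat.one_le_pow 2 s D.hs.pos
  omega

theorem Z_le (s : ℕ) (S : Subgroup G) : omegaCenterOf s S ≤ S := fun x hx => hx.1

theorem Z_le_cent (s : ℕ) (S : Subgroup G) :
    omegaCenterOf s S ≤ Subgroup.centralizer (S : Set G) := fun x hx => hx.2.1

theorem Z_exp (s : ℕ) (S : Subgroup G) : ∀ x ∈ omegaCenterOf s S, x ^ s = 1 := fun x hx => hx.2.2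

theorem Z_comm (s : ℕ) (S : Subgroup G) : IsMulCommutative (omegaCenterOf s S) :=
  ⟨⟨fun x y => Subtype.ext ((Subgroup.mem_centralizer_iff.1 y.2.2.1) x.1 x.2.1)⟩⟩

theorem H_le_normalizer_Z (D : U95S p A H s S) :
    H ≤ Subgroup.normalizer ((omegaCenterOf s S : Subgroup G) : Set G) :=
  D.hHS.trans (normalizer_le_normalizer_omegaCenterOf s S)

/-- (c) -/
theorem card_Z (D : U95S p A H s S) {E : Subgroup G} (hEA : E ≤ A) (hEp : ∀ a ∈ E, a ^ p = 1)
    (hEcard : p ^ 2 < Nat.card E) (hAder : A ≤ ⁅H, H⁆) :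
    s ^ 1 < Nat.card (omegaCenterOf s S) := by
  have hpp : p.Prime := Fact.out
  by_contra hle
  push Not at hle
  have hAcomm : IsMulCommutative A :=
    Cfsg.Agent.Lib.Helper22.BG.isMulCommutative_of_le_centralizer D.hAc
  have hEc : IsMulCommutative E := isMulCommutative_of_le' hAcomm hEA
  obtain ⟨z, hzS, hzC, hz1, hzs⟩ := exists_central_order_p D.hSs D.S_ne_bot
  have hzZ : z ∈ omegaCenterOf s S := ⟨hzS, hzC, hzs⟩
  have hzcard : Nat.card (Subgroup.zpowers z) = s := by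
    rw [Nat.card_zpowers]; exact orderOf_eq_prime hzs hz1
  have hZeq : Subgroup.zpowers z = omegaCenterOf s S :=
    Subgroup.eq_of_le_of_card_ge (Subgroup.zpowers_le.2 hzZ) (by rw [hzcard]; rwa [pow_one] at hle)
  have hZcard : Nat.card (omegaCenterOf s S) = s := by rw [← hZeq]; exact hzcard
  have hAZ : A ≤ Subgroup.centralizer ((omegaCenterOf s S : Subgroup G) : Set G) := by
    have h1 := D.H_le_normalizer_Z
    rw [← hZeq] at h1 ⊢
    exact hAder.trans (commutator_le_centralizer_of_zpowers h1)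
  have hs2 : s ≠ 2 := MS_prime_ne_two D.hG (H := omegaCenterOf s S) (by rw [hZcard])
  have hSA : S ≤ Subgroup.centralizer (A : Set G) := by
    apply gen_pairs hEc hEp hEcard (D.not_dvd_of_isPGroup D.hSs)
      (hEA.trans (D.hAH.trans D.hHS))
    intro e he he1 c hc hce
    obtain ⟨hE0E, -, hE0r⟩ := pair_facts hEc hEp he he1 hc hce
    have hb1 := D.b1 (hE0E.trans hEA) hE0r
    have hcs : ∀ a ∈ A, A ≤ Subgroup.normalizer
        ((Subgroup.centralizer ({a} : Set G) : Subgroup G) : Set G) := by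
      intro a ha
      refine le_trans ?_ Subgroup.le_normalizer
      exact le_cent_singleton_of_mem ha D.hAc
    have hZcs : ∀ a ∈ A, omegaCenterOf s S ≤ Subgroup.centralizer ({a} : Set G) := by
      intro a ha
      exact le_cent_singleton_of_mem ha (Subgroup.le_centralizer_iff.1 hAZ)
    apply le_centralizer_of_centralizes_good s hs2 _ (omegaCenterOf s S) A
      ((D.hSs.to_inf_left).to_inf_left)
      (le_inf (le_inf (Z_le s S) (hZcs e (hEA he))) (hZcs c (hEA hc)))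
      (le_trans (le_inf (le_trans (le_inf (D.hAH.trans D.hHS) (hcs e (hEA he)))
        Subgroup.inf_normalizer_le_normalizer_inf) (hcs c (hEA hc)))
        Subgroup.inf_normalizer_le_normalizer_inf)
      (D.coprime_of_le le_rfl) ?_ hAZ
    intro x hx hxc hxs
    have h2 := (pRankLE_iff _).1 hb1 (adjoin (omegaCenterOf s S) x hxc)
      (adjoin_le _ (le_inf (Z_le s S) (le_trans (le_inf (hZcs e (hEA he)) (hZcs c (hEA hc)))
        (inf_cent_pair_le e c)))
        (Subgroup.mem_inf.2 ⟨hx.1.1, inf_cent_pair_le e c (Subgroup.mem_inf.2 ⟨hx.1.2, hx.2⟩)⟩))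
      (adjoin_comm _ (Z_comm s S)) (adjoin_pow _ s (Z_exp s S) hxs)
    have h3 : omegaCenterOf s S = adjoin (omegaCenterOf s S) x hxc :=
      Subgroup.eq_of_le_of_card_ge (le_adjoin _ _ _) (by rw [hZcard]; rwa [pow_one] at h2)
    rw [h3]
    exact self_mem_adjoin _ _ _
  exact U95_F1 D.hG D.hAc D.hnot D.S_uniq hEA
    (Cfsg.Agent.Lib.Helper23U.not_rankLE_one_of hpp le_rfl ⟨hEc, hEp⟩ hEcard.le)
    (hEA.trans (Subgroup.le_centralizer_iff.1 hSA))

theorem Z_uniq (D : U95S p A H s S) (hZ : s ^ 1 < Nat.card (omegaCenterOf s S)) :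
    Cfsg.InUniqueMaximal (omegaCenterOf s S) :=
  D.u2 _ (isPGroup_of_exponent (Z_exp s S))
    (Cfsg.Agent.Lib.Helper23U.not_isCyclic_of_elemAb (Z_exp s S) (by rwa [pow_one] at hZ))
    (fun h => D.hS3 (pRankLE_mono (Subgroup.le_centralizer_iff.1 (Z_le_cent s S)) h))

/-- (c1) -/
theorem c1 (D : U95S p A H s S) (hZ : s ^ 1 < Nat.card (omegaCenterOf s S)) {X : Subgroup G}
    (hX : X ≠ ⊥) (hXS : X ≤ S) : Subgroup.normalizer (X : Set G) ≤ H :=
  le_of_inUniqueMaximal (D.Z_uniq hZ) D.hH ((Z_le s S).trans D.hSH)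
    (MS_normalizer_ne_top D.hG hX (MS_isPGroup_ne_top D.hG (D.hSs.to_le hXS)))
    (((Z_le_cent s S).trans (Subgroup.centralizer_le hXS)).trans (centralizer_le_normalizer' X))

/-- (d) -/
theorem exists_cent_le (D : U95S p A H s S) (hZ : s ^ 1 < Nat.card (omegaCenterOf s S))
    {E : Subgroup G} (hEA : E ≤ A) (hEp : ∀ a ∈ E, a ^ p = 1) (hEcard : Nat.card E = p ^ 3) :
    ∃ a ∈ E, a ≠ 1 ∧ Subgroup.centralizer ({a} : Set G) ≤ H := by
  have hpp : p.Prime := Fact.out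
  have hAcomm : IsMulCommutative A :=
    Cfsg.Agent.Lib.Helper22.BG.isMulCommutative_of_le_centralizer D.hAc
  have hEc : IsMulCommutative E := isMulCommutative_of_le' hAcomm hEA
  have hEcard' : p ^ 2 < Nat.card E := by
    rw [hEcard]; exact Nat.pow_lt_pow_right hpp.one_lt (by norm_num)
  set Z := omegaCenterOf s S with hZdef
  have hZs : IsPGroup s Z := isPGroup_of_exponent (Z_exp s S)
  have hEZ : E ≤ Subgroup.normalizer (Z : Set G) := hEA.trans (D.hAH.trans D.H_le_normalizer_Z)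
  have hgen : ∀ W : Subgroup G, ¬ Z ≤ W → ∃ e ∈ E, e ≠ 1 ∧ ∃ c ∈ E, c ∉ Subgroup.zpowers e ∧
      ¬ Z ⊓ Subgroup.centralizer {e} ⊓ Subgroup.centralizer {c} ≤ W := by
    intro W hW
    by_contra hcon
    push Not at hcon
    exact hW (gen_pairs hEc hEp hEcard' (D.not_dvd_of_isPGroup hZs) hEZ
      (fun e he he1 c hc hce => hcon e he he1 c hc hce))
  have hZbot : ¬ Z ≤ ⊥ := by
    intro h
    rw [le_bot_iff.1 h, Subgroup.card_bot] at hZ
    have := Nat.one_le_pow 1 s D.hs.pos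
    omega
  obtain ⟨e1, he1, he11, c1, hc1, hce1, hD1⟩ := hgen ⊥ hZbot
  set D1 := Z ⊓ Subgroup.centralizer {e1} ⊓ Subgroup.centralizer {c1} with hD1def
  obtain ⟨hE1E, hE1card, hE1r⟩ := pair_facts hEc hEp he1 he11 hc1 hce1
  have hD1Z : D1 ≤ Z := inf_le_left.trans inf_le_left
  have hD1cent : D1 ≤ Subgroup.centralizer
      ((Subgroup.closure ({e1, c1} : Set G) : Subgroup G) : Set G) :=
    le_trans (le_inf (inf_le_left.trans inf_le_right) inf_le_right) (inf_cent_pair_le e1 c1)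
  have hD1card : Nat.card D1 ≤ s ^ 1 :=
    (pRankLE_iff _).1 (D.b1 (hE1E.trans hEA) hE1r) D1
      (le_inf (hD1Z.trans (Z_le s S)) hD1cent) (isMulCommutative_of_le' (Z_comm s S) hD1Z)
      (fun x hx => Z_exp s S x (hD1Z hx))
  have hZD1 : ¬ Z ≤ D1 := fun h => by
    have := Subgroup.card_le_of_le h
    omega
  obtain ⟨e2, he2, he21, c2, hc2, hce2, hD2⟩ := hgen D1 hZD1
  set D2 := Z ⊓ Subgroup.centralizer {e2} ⊓ Subgroup.centralizer {c2} with hD2def
  obtain ⟨hE2E, hE2card, hE2r⟩ := pair_facts hEc hEp he2 he21 hc2 hce2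
  have hD2Z : D2 ≤ Z := inf_le_left.trans inf_le_left
  have hD2cent : D2 ≤ Subgroup.centralizer
      ((Subgroup.closure ({e2, c2} : Set G) : Subgroup G) : Set G) :=
    le_trans (le_inf (inf_le_left.trans inf_le_right) inf_le_right) (inf_cent_pair_le e2 c2)
  have hne := inf_ne_bot_of_card hpp hE1E hE2E hEcard hE1card hE2card
  obtain ⟨a, ha, ha1⟩ : ∃ a ∈ Subgroup.closure ({e1, c1} : Set G) ⊓
      Subgroup.closure ({e2, c2} : Set G), a ≠ 1 := by
    by_contra hcon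
    push Not at hcon
    exact hne ((Subgroup.eq_bot_iff_forall _).2 hcon)
  have haE : a ∈ E := hE1E ha.1
  refine ⟨a, haE, ha1, ?_⟩
  have h1 : D1 ≤ Z ⊓ Subgroup.centralizer ({a} : Set G) :=
    le_inf hD1Z (le_cent_singleton_of_mem ha.1 hD1cent)
  have h2 : D2 ≤ Z ⊓ Subgroup.centralizer ({a} : Set G) :=
    le_inf hD2Z (le_cent_singleton_of_mem ha.2 hD2cent)
  have hlt : D1 < Z ⊓ Subgroup.centralizer ({a} : Set G) :=
    lt_of_le_of_ne h1 (fun h => hD2 (h ▸ h2))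
  have hD1s : s ≤ Nat.card D1 := by
    rcases (hZs.to_le hD1Z).card_eq_or_dvd with h | h
    · exact absurd (le_of_eq (Subgroup.card_eq_one.1 h)) hD1
    · exact Nat.le_of_dvd Nat.card_pos h
  apply D.b2 (hEA haE) ha1 (hZs.to_le inf_le_left) (inf_le_left.trans ((Z_le s S).trans D.hSH))
    inf_le_right
  apply not_pRankLE_of_le le_rfl (isMulCommutative_of_le' (Z_comm s S) inf_le_left)
    (fun x hx => Z_exp s S x hx.1)
  have := card_lt_of_lt hlt
  rw [pow_one]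
  exact lt_of_le_of_lt hD1s this

/-- (e) -/
theorem all_le (D : U95S p A H s S) {P : Subgroup G} (C : Cfsg.Agent.Lib.Helper10.BG95.Ctx p P A)
    (hCA : Subgroup.centralizer (A : Set G) ≤ H) {W : Subgroup G} (hW : IsPGroup s W)
    (hAW : A ≤ Subgroup.normalizer (W : Set G)) : W ≤ H := by
  obtain ⟨Q, hQ, hWQ⟩ := Cfsg.Agent.Lib.Helper23.exists_maxInvQ_ge (A := A) (q := s) (U := W)
    ⟨hW, hAW⟩
  obtain ⟨Q0, hQ0, hSQ0⟩ := Cfsg.Agent.Lib.Helper23.exists_maxInvQ_ge (A := A) (q := s) (U := S)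
    ⟨D.hSs, D.hAH.trans D.hHS⟩
  obtain ⟨k, hk, rfl⟩ := C.htr D.hs D.hsp Q0
    (Cfsg.Agent.Lib.Helper23.mem_maxInvSubgroups_top_iff.mpr hQ0) Q
    (Cfsg.Agent.Lib.Helper23.mem_maxInvSubgroups_top_iff.mpr hQ)
  have hQ0H : Q0 ≤ H := le_of_inUniqueMaximal D.S_uniq D.hH D.hSH
    (MS_isPGroup_ne_top D.hG hQ0.1.1) hSQ0
  have hkH : k ∈ H := hCA (Cfsg.Agent.Lib.Helper22.piCoreOf_le _ _ hk)
  intro x hx
  obtain ⟨y, hy, rfl⟩ := hWQ hx
  exact H.mul_mem (H.mul_mem hkH (hQ0H hy)) (H.inv_mem hkH)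

end U95S

/-- (a) -/
theorem exists_prime_rank3 [Finite G] {p : ℕ} [Fact p.Prime] {P A : Subgroup G}
    (C : Cfsg.Agent.Lib.Helper10.BG95.Ctx p P A) (hnot : ¬ Cfsg.InUniqueMaximal A)
    {H : Subgroup G} (hH : IsCoatom H) (hAH : A ≤ ⁅H, H⁆) :
    ∃ s : ℕ, s.Prime ∧ s ≠ p ∧ ¬ Cfsg.PRankLE s 2 (Cfsg.pCoreOf s H) := by
  have hpp : p.Prime := Fact.out
  by_contra hcon
  push Not at hcon
  have hAcomm : IsMulCommutative A :=
    Cfsg.Agent.Lib.Helper22.BG.isMulCommutative_of_le_centralizer C.comm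
  have hpF : Cfsg.PRankLE p 2 (Cfsg.fittingOf H) := by
    by_contra h
    exact hnot (Cfsg.Agent.S1401.result C.hG H hH p h A C.pA hAcomm C.rk)
  haveI : Group.IsSolvable H := MS_solvable C.hG hH.1
  have h1 : commutator H ≤ Cfsg.fittingSubgroup H := by
    apply commutator_le_fitting_of_rank2 (MS_odd C.hG H)
    intro q hq F hF hFc hFq
    haveI : Fact q.Prime := ⟨hq⟩
    have hr : Cfsg.PRankLE q 2 (Cfsg.pCoreOf q H) := by
      by_cases hqp : q = p
      · subst hqp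
        exact pRankLE_mono (Cfsg.Agent.Lib.Helper22.BG.pCoreOf_le_fittingOf q H) hpF
      · exact hcon q hq hqp
    have h2 := (pRankLE_iff _).1 hr (F.map H.subtype) (Subgroup.map_mono hF)
      (by
        refine ⟨⟨?_⟩⟩
        rintro ⟨_, x, hx, rfl⟩ ⟨_, y, hy, rfl⟩
        apply Subtype.ext
        show H.subtype x * H.subtype y = H.subtype y * H.subtype x
        rw [← map_mul, ← map_mul]
        exact congrArg H.subtype (congrArg Subtype.val (hFc.is_comm.comm ⟨x, hx⟩ ⟨y, hy⟩)))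
      (by
        rintro _ ⟨x, hx, rfl⟩
        rw [← map_pow, hFq x hx, map_one])
    rwa [Subgroup.card_map_of_injective H.subtype_injective] at h2
  have h2 : ⁅H, H⁆ ≤ Cfsg.fittingOf H := by
    rw [← Subgroup.map_subtype_commutator]
    exact Subgroup.map_mono h1
  exact C.rk (pRankLE_mono (hAH.trans h2) hpF)

theorem exists_U95S [Finite G] {p : ℕ} [Fact p.Prime] {P A : Subgroup G}
    (C : Cfsg.Agent.Lib.Helper10.BG95.Ctx p P A) (hnot : ¬ Cfsg.InUniqueMaximal A)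
    {H : Subgroup G} (hH : IsCoatom H) (hAH : A ≤ ⁅H, H⁆) :
    ∃ s : ℕ, U95S p A H s (Cfsg.pCoreOf s H) := by
  obtain ⟨s, hs, hsp, hS3⟩ := exists_prime_rank3 C hnot hH hAH
  haveI : Fact s.Prime := ⟨hs⟩
  have hF : ¬ Cfsg.PRankLE s 2 (Cfsg.fittingOf H) := fun h =>
    hS3 (pRankLE_mono (Cfsg.Agent.Lib.Helper22.BG.pCoreOf_le_fittingOf s H) h)
  have u3' : ∀ F : Subgroup G, IsMulCommutative F → (∀ a ∈ F, a ^ s = 1) → s ^ 2 < Nat.card F →
      Cfsg.InUniqueMaximal F := fun F hFc hFs hcard =>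
    Cfsg.Agent.S1401.result C.hG H hH s hF F (isPGroup_of_exponent hFs) hFc
      (not_pRankLE_of_le le_rfl hFc hFs hcard)
  refine ⟨s, C.hG, C.comm, C.pA, hnot, hH, hAH.trans (Subgroup.commutator_le_self H), hs, hsp,
    Cfsg.Agent.Lib.Helper47.pCoreOf_isPGroup H, Cfsg.Agent.Lib.Helper47.pCoreOf_le H,
    Cfsg.Agent.Lib.Helper47.le_normalizer_pCoreOf H, hS3, ?_, ?_⟩
  · intro R hR hR3
    obtain ⟨F, hFR, hFc, hFs, hcard⟩ := exists_of_not_pRankLE hR3
    exact inUniqueMaximal_mono (u3' F hFc hFs hcard) hFR hR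
  · intro B hBs hBnc hB3
    obtain ⟨F, hFR, hFc, hFs, hcard⟩ := exists_of_not_pRankLE hS3
    exact Cfsg.Agent.S1400.result C.hG s F B (isPGroup_of_exponent hFs) hFc
      (not_pRankLE_of_le le_rfl hFc hFs hcard) (u3' F hFc hFs hcard) hBs hBnc hB3

/-- **Step 3** of the proof of BG Lemma 9.5. -/
theorem exists_good [Finite G] {p : ℕ} [Fact p.Prime] {P A : Subgroup G}
    (C : Cfsg.Agent.Lib.Helper10.BG95.Ctx p P A) (hnot : ¬ Cfsg.InUniqueMaximal A)
    {E : Subgroup G} (hEA : E ≤ A) (hEp : ∀ a ∈ E, a ^ p = 1) (hEcard : Nat.card E = p ^ 3)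
    {H : Subgroup G} (hH : IsCoatom H) (hAH : A ≤ ⁅H, H⁆) :
    ∃ (s : ℕ) (S : Subgroup G), s.Prime ∧ s ≠ p ∧ IsPGroup s S ∧
      H ≤ Subgroup.normalizer (S : Set G) ∧ S ≤ H ∧
      (∀ L : Subgroup G, IsCoatom L → S ≤ L → L = H) ∧
      Subgroup.centralizer (A : Set G) ≤ H ∧
      (∀ W : Subgroup G, IsPGroup s W → A ≤ Subgroup.normalizer (W : Set G) → W ≤ H) ∧
      (∀ x ∈ E, x ≠ 1 → ∀ Y : Subgroup G, IsPGroup s Y → ¬ IsCyclic Y → Y ≤ H →
        Y ≤ Subgroup.centralizer ({x} : Set G) → Subgroup.centralizer ({x} : Set G) ≤ H) ∧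
      (∀ X : Subgroup G, X ≠ ⊥ → X ≤ S → Subgroup.normalizer (X : Set G) ≤ H) := by
  have hpp : p.Prime := Fact.out
  obtain ⟨s, D⟩ := exists_U95S C hnot hH hAH
  haveI : Fact s.Prime := ⟨D.hs⟩
  have hEcard' : p ^ 2 < Nat.card E := by
    rw [hEcard]; exact Nat.pow_lt_pow_right hpp.one_lt (by norm_num)
  have hZ := D.card_Z hEA hEp hEcard' hAH
  obtain ⟨a, haE, ha1, haH⟩ := D.exists_cent_le hZ hEA hEp hEcard
  have hCA : Subgroup.centralizer (A : Set G) ≤ H :=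
    (le_cent_singleton_of_mem (hEA haE) le_rfl).trans haH
  have hs2 : s ≠ 2 := MS_prime_ne_two D.hG (dvd_card_of_lt (isPGroup_of_exponent
    (U95S.Z_exp s (Cfsg.pCoreOf s H))) hZ)
  refine ⟨s, Cfsg.pCoreOf s H, D.hs, D.hsp, D.hSs, D.hHS, D.hSH,
    fun L hL hSL => eq_of_inUniqueMaximal D.S_uniq D.hH D.hSH hL hSL, hCA,
    fun W hW hAW => D.all_le C hCA hW hAW, ?_, fun X hX hXS => D.c1 hZ hX hXS⟩
  intro x hx hx1 Y hYs hYnc hYH hYx
  exact D.b2 (hEA hx) hx1 hYs hYH hYx (fun h => hYnc (isCyclic_of_pRankLE_one hs2 hYs h))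

end Cfsg.Agent.Lib.Helper24
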