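import Mathlib
import Cfsg.Prelude.Def_Transfer
import Cfsg.Agent.Lib.Helper24.U95b
import Cfsg.Agent.Lib.Helper10.Card

/-!
# BG 3.6: the two external inputs as hypotheses, and a convenient wrapper

`FrobFormula X` is the statement of S1545 for the fixed group `X`; `HH3769 X` the one of S3769.
Everything in the BG 3.6 development takes them as hypotheses, so that it can be landed
independently of these two statements.
-/

set_option autoImplicit false
set_option linter.unusedSectionVars false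

namespace Cfsg.Agent.Lib.Helper24

open Subgroup

/-- the statement of S1545 for a fixed group -/
def FrobFormula (X : Type*) [Group X] : Prop :=
  ∀ (U E H : Subgroup X) (_ : U ≠ ⊥) (_ : E ≠ ⊥) (_ : U ⊓ E = ⊥)
    (_ : ∀ e ∈ E, ∀ u ∈ U, e * u * e⁻¹ ∈ U)
    (_ : ∀ e ∈ E, e ≠ 1 → ∀ u ∈ U, e * u = u * e → u = 1)
    (_ : ∀ x ∈ U ⊔ E, ∀ h ∈ H, x * h * x⁻¹ ∈ H) (_ : H ⊓ (U ⊔ E) = ⊥)
    (_ : Group.IsSolvable H) (_ : Nat.Coprime (Nat.card H) (Nat.card ↥(U ⊔ E))),
    Nat.card ↥(H ⊓ Subgroup.centralizer ((U ⊔ E : Subgroup X) : Set X)) ^ Nat.card E * Nat.card H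
      = Nat.card ↥(H ⊓ Subgroup.centralizer (E : Set X)) ^ Nat.card E
        * Nat.card ↥(H ⊓ Subgroup.centralizer (U : Set X))

/-- the statement of S3769 for a fixed group -/
def HH3769 (X : Type*) [Group X] : Prop :=
  ∀ (G : Subgroup X) (_ : Group.IsSolvable G) (_ : Odd (Nat.card G)) (V : Subgroup X) {ℓ : ℕ}
    (_ : ℓ.Prime) (_ : Cfsg.IsElementaryAbelian ℓ V) (_ : ¬ ℓ ∣ Nat.card G)
    (_ : G ≤ Subgroup.normalizer (V : Set X)) (K R : Subgroup X) (_ : K ≤ G)
    (_ : G ≤ Subgroup.normalizer (K : Set X)) (_ : (Nat.card K).Coprime (K.relIndex G))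
    (_ : R ≤ G) (_ : (Nat.card R).Prime) (_ : K ⊓ R = ⊥) (_ : K ⊔ R = G)
    (_ : V ⊓ Subgroup.centralizer (R : Set X) = ⊥), ⁅R, K⁆ ≤ Subgroup.centralizer (V : Set X)

variable {X : Type*} [Group X] [Finite X]

/-- a nontrivial element of a group of prime order generates it -/
theorem zpowers_eq_of_prime_card {E : Subgroup X} {r : ℕ} (hr : r.Prime) (hE : Nat.card E = r)
    {e : X} (he : e ∈ E) (he1 : e ≠ 1) : zpowers e = E := by
  have : Fact (Nat.card E).Prime := ⟨hE ▸ hr⟩
  have h1 : zpowers e ≤ E := by rwa [zpowers_le]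
  rcases Subgroup.eq_bot_or_eq_top_of_prime_card ((zpowers e).subgroupOf E) with h | h
  · exfalso
    rw [subgroupOf_eq_bot, disjoint_iff, inf_eq_left.2 h1, zpowers_eq_bot] at h
    exact he1 h
  · rw [subgroupOf_eq_top] at h
    exact le_antisymm h1 h

theorem centralizer_sup_eq (U E : Subgroup X) :
    centralizer ((U ⊔ E : Subgroup X) : Set X) = centralizer (U : Set X) ⊓ centralizer (E : Set X) := by
  apply le_antisymm
  · exact le_inf (centralizer_le (by exact_mod_cast (le_sup_left : U ≤ U ⊔ E)))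
      (centralizer_le (by exact_mod_cast (le_sup_right : E ≤ U ⊔ E)))
  · intro g hg
    have h1 : U ≤ centralizer ({g} : Set X) := by
      intro u hu
      rw [mem_centralizer_singleton_iff]
      exact mem_centralizer_iff.1 hg.1 u hu
    have h2 : E ≤ centralizer ({g} : Set X) := by
      intro u hu
      rw [mem_centralizer_singleton_iff]
      exact mem_centralizer_iff.1 hg.2 u hu
    rw [mem_centralizer_iff]
    intro y hy
    exact mem_centralizer_singleton_iff.1 ((sup_le h1 h2) hy)

theorem inf_eq_bot_of_coprime' {U E : Subgroup X} (h : (Nat.card U).Coprime (Nat.card E)) :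
    U ⊓ E = ⊥ := by
  rw [← card_eq_one]
  exact Nat.eq_one_of_dvd_coprimes h (card_dvd_of_le inf_le_left) (card_dvd_of_le inf_le_right)

/-- Convenient form of the Frobenius fixed point formula S1545: `U ⋊ E` with `|E| = r` prime and
`C_U(E) = 1`, acting coprimely on `H`. -/
theorem frob_formula (hF : FrobFormula X) [Group.IsSolvable X] {U E H : Subgroup X} {r : ℕ}
    (hr : r.Prime) (hE : Nat.card E = r) (hU1 : U ≠ ⊥) (hEU : E ≤ normalizer (U : Set X))
    (hfpf : U ⊓ centralizer (E : Set X) = ⊥)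
    (hUH : U ≤ normalizer (H : Set X)) (hEH : E ≤ normalizer (H : Set X))
    (hHU : (Nat.card H).Coprime (Nat.card U)) (hHr : (Nat.card H).Coprime r)
    (hUr : (Nat.card U).Coprime r) :
    Nat.card ↥(H ⊓ (centralizer (U : Set X) ⊓ centralizer (E : Set X))) ^ r * Nat.card H
      = Nat.card ↥(H ⊓ centralizer (E : Set X)) ^ r * Nat.card ↥(H ⊓ centralizer (U : Set X)) := by
  have hUE : U ⊓ E = ⊥ := inf_eq_bot_of_coprime' (hE ▸ hUr)
  have hE1 : E ≠ ⊥ := by
    intro h
    rw [h, card_bot] at hE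
    exact hr.one_lt.ne hE
  have hcard : Nat.card ↥(U ⊔ E) = Nat.card U * r := by
    have := Cfsg.Agent.Lib.Helper10.card_sup_mul_card_inf' U E hEU
    rwa [hUE, card_bot, mul_one, hE] at this
  have hcop : Nat.Coprime (Nat.card H) (Nat.card ↥(U ⊔ E)) := by
    rw [hcard]; exact Nat.Coprime.mul_right hHU hHr
  have := hF U E H hU1 hE1 hUE
    (fun e he u hu => (mem_normalizer_iff.1 (hEU he) u).1 hu)
    (fun e he he1 u hu h => by
      have h1 : u ∈ U ⊓ centralizer (E : Set X) := by
        refine ⟨hu, ?_⟩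
        rw [← zpowers_eq_of_prime_card hr hE he he1]
        change u ∈ centralizer ((zpowers e : Subgroup X) : Set X)
        rw [centralizer_zpowers_eq, mem_centralizer_singleton_iff]
        exact h.symm
      rw [hfpf] at h1
      exact mem_bot.1 h1)
    (fun x hx h hh => (mem_normalizer_iff.1 ((sup_le hUH hEH) hx) h).1 hh)
    (inf_eq_bot_of_coprime' hcop) inferInstance hcop
  rw [centralizer_sup_eq, hE] at this
  exact this

end Cfsg.Agent.Lib.Helper24
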