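import Mathlib
import Cfsg.Agent.Lib.Helper24.BG36w
import Cfsg.Agent.Lib.Helper46.Trace
import Cfsg.Agent.Lib.Helper10.Card

/-!
# BG 3.6: general lemmas (norm elements, hyperplanes)
-/

set_option autoImplicit false
set_option linter.unusedSectionVars false

namespace Cfsg.Agent.Lib.Helper24

open Subgroup
open scoped Pointwise

variable {X : Type*} [Group X] [Finite X]

theorem eq_one_of_pow_coprime {H : Subgroup X} {n : ℕ} (hcop : (Nat.card H).Coprime n) {v : X}
    (hv : v ∈ H) (h : v ^ n = 1) : v = 1 := by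
  have h1 : orderOf v ∣ Nat.card H := by
    have := orderOf_dvd_natCard (⟨v, hv⟩ : H)
    rwa [Subgroup.orderOf_mk] at this
  have h2 : orderOf v ∣ n := orderOf_dvd_of_pow_eq_one h
  exact orderOf_eq_one_iff.1 (Nat.eq_one_of_dvd_coprimes hcop h1 h2)

open scoped IsMulCommutative in
/-- The norm element: for `w` in the abelian group `V` normalized by `R`, there is a fixed point
`f` of `R` in `V` with `w⁻¹ f` in every subgroup containing the conjugates `g w g⁻¹`, `g ≠ 1`. -/
theorem nrm_exists {V R : Subgroup X} (hVc : IsMulCommutative V)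
    (hRV : R ≤ normalizer (V : Set X)) {w : X} (hw : w ∈ V) :
    ∃ f ∈ V ⊓ centralizer (R : Set X), ∀ K : Subgroup X,
      (∀ g ∈ R, g ≠ 1 → g * w * g⁻¹ ∈ K) → w⁻¹ * f ∈ K := by
  classical
  have : Fintype R := Fintype.ofFinite _
  let w' : V := ⟨w, hw⟩
  let c : R → V := fun g => Cfsg.Agent.Lib.Helper46.conjOn V g (hRV g.2) w'
  let τ : V := ∏ g : R, c g
  have hB : ∀ r : R, Cfsg.Agent.Lib.Helper46.conjOn V r (hRV r.2) τ = τ := by
    intro r
    change Cfsg.Agent.Lib.Helper46.conjOn V r (hRV r.2) (∏ g : R, c g) = ∏ g : R, c g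
    rw [map_prod, ← Equiv.prod_comp (Equiv.mulLeft r) c]
    apply Finset.prod_congr rfl
    intro g _
    apply Subtype.ext
    simp only [c, Cfsg.Agent.Lib.Helper46.conjOn_coe, Equiv.coe_mulLeft, Subgroup.coe_mul]
    group
  refine ⟨τ, ⟨τ.2, ?_⟩, ?_⟩
  · change (τ : X) ∈ centralizer (R : Set X)
    rw [mem_centralizer_iff]
    intro r hr
    have := congrArg Subtype.val (hB ⟨r, hr⟩)
    rw [Cfsg.Agent.Lib.Helper46.conjOn_coe] at this
    calc r * (τ : X) = (r * τ * r⁻¹) * r := by group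
      _ = τ * r := by rw [this]
  · intro K hK
    have h1 : τ = c 1 * ∏ g ∈ Finset.univ.erase (1 : R), c g :=
      (Finset.mul_prod_erase Finset.univ c (Finset.mem_univ 1)).symm
    have h2 : c 1 = w' := by
      apply Subtype.ext
      simp [c, Cfsg.Agent.Lib.Helper46.conjOn_coe, w']
    have h3 : (∏ g ∈ Finset.univ.erase (1 : R), c g) ∈ K.subgroupOf V := by
      apply Subgroup.prod_mem
      intro g hg
      rw [mem_subgroupOf]
      have hg1 : (g : X) ≠ 1 := by
        intro h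
        exact (Finset.mem_erase.1 hg).1 (Subtype.ext h)
      exact hK g g.2 hg1
    rw [mem_subgroupOf] at h3
    have h4 : w⁻¹ * (τ : X) = ((∏ g ∈ Finset.univ.erase (1 : R), c g : V) : X) := by
      rw [h1, h2]
      simp [w']
    rw [h4]
    exact h3

/-- two distinct hyperplanes generate -/
theorem sup_eq_of_hyp {q : ℕ} (hq : q.Prime) {D D' Q : Subgroup X} (hD : D ≤ Q) (hD' : D' ≤ Q)
    (hc : Nat.card D * q = Nat.card Q) (hc' : Nat.card D' * q = Nat.card Q) (hne : D ≠ D') :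
    D ⊔ D' = Q := by
  have h1 : Nat.card D ∣ Nat.card ↥(D ⊔ D') := card_dvd_of_le le_sup_left
  have h2 : Nat.card ↥(D ⊔ D') ∣ Nat.card Q := card_dvd_of_le (sup_le hD hD')
  obtain ⟨k, hk⟩ := h1
  have hDpos : 0 < Nat.card D := Nat.card_pos
  have h3 : k ∣ q := by
    rw [hk, ← hc] at h2
    exact Nat.dvd_of_mul_dvd_mul_left hDpos h2
  rcases (Nat.dvd_prime hq).1 h3 with h | h
  · exfalso
    rw [h, mul_one] at hk
    have h4 : D = D ⊔ D' := eq_of_le_of_card_ge le_sup_left hk.le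
    have h5 : D' ≤ D := by rw [h4]; exact le_sup_right
    have h6 : Nat.card D = Nat.card D' := Nat.eq_of_mul_eq_mul_right hq.pos (hc.trans hc'.symm)
    exact hne (eq_of_le_of_card_ge h5 h6.le).symm
  · rw [h, hc] at hk
    exact eq_of_le_of_card_ge (sup_le hD hD') hk.ge

theorem conj_smul_le {g : X} {D Q : Subgroup X} (hg : g ∈ normalizer (Q : Set X)) (hD : D ≤ Q) :
    MulAut.conj g • D ≤ Q := by
  intro y hy
  rw [Cfsg.Agent.Lib.Helper10.mem_conj_smul_iff] at hy
  have := (mem_normalizer_iff.1 hg _).1 (hD hy)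
  have h2 : g * (g⁻¹ * y * g) * g⁻¹ = y := by group
  rwa [h2] at this

theorem conj_mem_conj_smul {g w : X} {D : Subgroup X} (hw : w ∈ D) :
    g * w * g⁻¹ ∈ MulAut.conj g • D := by
  rw [Cfsg.Agent.Lib.Helper10.mem_conj_smul_iff]
  have : g⁻¹ * (g * w * g⁻¹) * g = w := by group
  rwa [this]

theorem conj_mem_centralizer_conj_smul {g w : X} {D : Subgroup X}
    (hw : w ∈ centralizer (D : Set X)) :
    g * w * g⁻¹ ∈ centralizer ((MulAut.conj g • D : Subgroup X) : Set X) := by
  rw [mem_centralizer_iff]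
  intro y hy
  have hy' : g⁻¹ * y * g ∈ D := (Cfsg.Agent.Lib.Helper10.mem_conj_smul_iff g y D).1 hy
  have h1 := mem_centralizer_iff.1 hw _ hy'
  calc y * (g * w * g⁻¹) = g * ((g⁻¹ * y * g) * w) * g⁻¹ := by group
    _ = g * (w * (g⁻¹ * y * g)) * g⁻¹ := by rw [h1]
    _ = g * w * g⁻¹ * y := by group

end Cfsg.Agent.Lib.Helper24
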