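import Mathlib
import Cfsg.Agent.Lib.Helper24.BG36g
import Cfsg.Agent.Lib.Helper24.BG36o
import Cfsg.Agent.Lib.Helper24.PGroup
import Cfsg.Agent.Lib.Helper24.BG10c
import Cfsg.Agent.Lib.Helper48.FF1
import Cfsg.Agent.Lib.Helper22.Generation2
import Cfsg.Agent.Lib.Helper1.Coprime2
import Cfsg.Agent.Lib.Helper22.CoprimeP

/-!
# BG 3.6, Theorem B: the context and the basic facts of the abelian case
-/

set_option autoImplicit false
set_option linter.unusedSectionVars false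
set_option linter.unusedVariables false

namespace Cfsg.Agent.Lib.Helper24

open Subgroup
open scoped Pointwise

/-- the minimal configuration in Theorem B of BG 3.6 -/
structure Ctx36 {X : Type*} [Group X] (p q r : ℕ) (V Q P R₀ : Subgroup X) : Prop where
  hp : p.Prime
  hq : q.Prime
  hr : r.Prime
  hpq : p ≠ q
  hpr : p ≠ r
  hqr : q ≠ r
  hV : Cfsg.IsElementaryAbelian p V
  hQ : IsPGroup q Q
  hP : IsPGroup p P
  hR₀ : Nat.card R₀ = r
  hQV : Q ≤ normalizer (V : Set X)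
  hPV : P ≤ normalizer (V : Set X)
  hRV : R₀ ≤ normalizer (V : Set X)
  hPQ : P ≤ normalizer (Q : Set X)
  hRQ : R₀ ≤ normalizer (Q : Set X)
  hRP : R₀ ≤ normalizer (P : Set X)
  hfaith : Q ⊓ centralizer (V : Set X) = ⊥
  hCP : P ⊓ centralizer (R₀ : Set X) = ⊥
  hCV : Nat.card ↥(V ⊓ centralizer (R₀ : Set X)) = p
  hZq : IsCyclic ↥(Q ⊓ centralizer (R₀ : Set X))
  hcomm : ⁅Q, P⁆ = Q
  hmin : ∀ Y : Subgroup X, Y ≤ Q → Y ≠ Q → P ≤ normalizer (Y : Set X) →
    R₀ ≤ normalizer (Y : Set X) → Y ≤ centralizer (P : Set X)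

variable {X : Type*} [Group X] [Finite X]

theorem cop_pgroups {p q : ℕ} (hp : p.Prime) (hq : q.Prime) (hne : p ≠ q) {H K : Subgroup X}
    (hH : IsPGroup p H) (hK : IsPGroup q K) : (Nat.card H).Coprime (Nat.card K) := by
  have : Fact p.Prime := ⟨hp⟩
  have : Fact q.Prime := ⟨hq⟩
  exact IsPGroup.coprime_card_of_ne p q hne H K hH hK

theorem cop_pgroup_prime {p r : ℕ} (hp : p.Prime) (hr : r.Prime) (hne : p ≠ r) {H : Subgroup X}
    (hH : IsPGroup p H) : (Nat.card H).Coprime r := by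
  have : Fact p.Prime := ⟨hp⟩
  obtain ⟨n, hn⟩ := IsPGroup.iff_card.1 hH
  rw [hn]
  exact Nat.Coprime.pow_left _ ((Nat.coprime_primes hp hr).2 hne)

theorem le_normalizer_of_ab {Q Y : Subgroup X} (hab : ∀ a ∈ Q, ∀ b ∈ Q, a * b = b * a)
    (hY : Y ≤ Q) : Q ≤ normalizer (Y : Set X) := by
  rw [le_normalizer_iff]
  intro g hg y hy
  rw [hab g hg y (hY hy)]
  simpa using hy

theorem le_centralizer_of_ab {Q Y : Subgroup X} (hab : ∀ a ∈ Q, ∀ b ∈ Q, a * b = b * a)
    (hY : Y ≤ Q) : Q ≤ centralizer (Y : Set X) := by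
  intro g hg
  rw [mem_centralizer_iff]
  intro y hy
  exact hab y (hY hy) g hg

namespace Ctx36

variable {p q r : ℕ} {V Q P R₀ : Subgroup X}

section basic
variable (h : Ctx36 p q r V Q P R₀)
include h

theorem hVp : IsPGroup p V := isPGroup_of_exponent h.hV.2

theorem hRr : IsPGroup r R₀ := by
  have : Fact r.Prime := ⟨h.hr⟩
  exact IsPGroup.of_card (n := 1) (by rw [h.hR₀, pow_one])

theorem r_odd (hodd : Odd (Nat.card X)) : Odd r := by
  have : r ∣ Nat.card X := h.hR₀ ▸ card_subgroup_dvd_card R₀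
  exact Odd.of_dvd_nat hodd this

theorem p_odd (hodd : Odd (Nat.card X)) : Odd p := by
  have : p ∣ Nat.card X := h.hCV ▸ card_subgroup_dvd_card _
  exact Odd.of_dvd_nat hodd this

theorem three_le_r (hodd : Odd (Nat.card X)) : 3 ≤ r := by
  have h1 := h.r_odd hodd
  have h2 := h.hr.two_le
  rcases h1 with ⟨k, hk⟩
  omega

theorem P_ne_bot (hQ1 : Q ≠ ⊥) : P ≠ ⊥ := by
  intro hP
  have := h.hcomm
  rw [hP, commutator_bot_right] at this
  exact hQ1 this.symm

end basic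

section ab
variable (h : Ctx36 p q r V Q P R₀) (hab : ∀ a ∈ Q, ∀ b ∈ Q, a * b = b * a) (hQ1 : Q ≠ ⊥)
include h hab

theorem hQc : IsMulCommutative Q := ⟨⟨fun a b => Subtype.ext (hab a a.2 b b.2)⟩⟩

theorem Q_inf_cent_P : Q ⊓ centralizer (P : Set X) = ⊥ := by
  have := Cfsg.Agent.Lib.Helper48.commutator_inf_centralizer_eq_bot (V := Q) (N := P)
    (h.hQc hab) h.hPQ
    (fun v hv hv1 => eq_one_of_pow_coprime (cop_pgroups h.hq h.hp h.hpq.symm h.hQ h.hP) hv hv1)
  rwa [h.hcomm] at this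

include hQ1

theorem exp_q : ∀ g ∈ Q, g ^ q = 1 := by
  have : Fact q.Prime := ⟨h.hq⟩
  let Ω : Subgroup X :=
    { carrier := {g | g ∈ Q ∧ g ^ q = 1}
      mul_mem' := by
        intro a b ha hb
        refine ⟨Q.mul_mem ha.1 hb.1, ?_⟩
        have hc : Commute a b := hab a ha.1 b hb.1
        rw [hc.mul_pow, ha.2, hb.2, one_mul]
      one_mem' := ⟨Q.one_mem, one_pow _⟩
      inv_mem' := by
        intro a ha
        exact ⟨Q.inv_mem ha.1, by rw [inv_pow, ha.2, inv_one]⟩ }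
  by_contra hne
  push Not at hne
  obtain ⟨g0, hg0, hg0q⟩ := hne
  have hΩQ : Ω ≤ Q := fun g hg => hg.1
  have hΩne : Ω ≠ Q := by
    intro hE
    have : g0 ∈ Ω := by rw [hE]; exact hg0
    exact hg0q this.2
  have hinv : ∀ A : Subgroup X, A ≤ normalizer (Q : Set X) → A ≤ normalizer (Ω : Set X) := by
    intro A hA
    rw [le_normalizer_iff]
    intro u hu g hg
    exact ⟨(mem_normalizer_iff.1 (hA hu) g).1 hg.1, by rw [conj_pow, hg.2]; group⟩
  have h1 := h.hmin Ω hΩQ hΩne (hinv P h.hPQ) (hinv R₀ h.hRQ)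
  have h2 : Ω ≤ Q ⊓ centralizer (P : Set X) := le_inf hΩQ h1
  rw [h.Q_inf_cent_P hab] at h2
  have hdvd : q ∣ Nat.card Q := by
    obtain ⟨n, hn⟩ := IsPGroup.iff_card.1 h.hQ
    rcases Nat.eq_zero_or_pos n with h0 | h0
    · exfalso
      rw [h0, pow_zero, card_eq_one] at hn
      exact hQ1 hn
    · rw [hn]; exact dvd_pow_self q h0.ne'
  obtain ⟨z, hz⟩ := exists_prime_orderOf_dvd_card' (G := Q) q hdvd
  have hzΩ : (z : X) ∈ Ω := ⟨z.2, by
    have := pow_orderOf_eq_one z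
    rw [hz] at this
    exact_mod_cast congrArg Subtype.val this⟩
  have h3 := mem_bot.1 (h2 hzΩ)
  have h4 : z = 1 := Subtype.ext h3
  rw [h4, orderOf_one] at hz
  exact h.hq.one_lt.ne hz

variable (hF : FrobFormula X) [Group.IsSolvable X]
include hF

theorem card_Q : Nat.card Q = Nat.card ↥(Q ⊓ centralizer (R₀ : Set X)) ^ r := by
  have := frob_formula hF h.hr h.hR₀ (h.P_ne_bot hQ1) h.hRP h.hCP h.hPQ h.hRQ
    (cop_pgroups h.hq h.hp h.hpq.symm h.hQ h.hP) (cop_pgroup_prime h.hq h.hr h.hqr h.hQ)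
    (cop_pgroup_prime h.hp h.hr h.hpr h.hP)
  have h1 := h.Q_inf_cent_P hab
  have h2 : Q ⊓ (centralizer (P : Set X) ⊓ centralizer (R₀ : Set X)) = ⊥ := by
    rw [← inf_assoc, h1, bot_inf_eq]
  rw [h1, h2, card_bot, one_pow, one_mul, mul_one] at this
  exact this

theorem card_C : Nat.card ↥(Q ⊓ centralizer (R₀ : Set X)) = q := by
  obtain ⟨g, hg⟩ := h.hZq.exists_generator
  have h1 : orderOf g = Nat.card ↥(Q ⊓ centralizer (R₀ : Set X)) :=
    orderOf_eq_card_of_forall_mem_zpowers hg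
  have h2 : g ^ q = 1 := Subtype.ext (by simpa using h.exp_q hab hQ1 g g.2.1)
  have h3 : Nat.card ↥(Q ⊓ centralizer (R₀ : Set X)) ∣ q := h1 ▸ orderOf_dvd_of_pow_eq_one h2
  rcases (Nat.dvd_prime h.hq).1 h3 with h4 | h4
  · exfalso
    have := h.card_Q hab hQ1 hF
    rw [h4, one_pow, card_eq_one] at this
    exact hQ1 this
  · exact h4

theorem card_Q' : Nat.card Q = q ^ r := by
  rw [h.card_Q hab hQ1 hF, h.card_C hab hQ1 hF]

end ab

end Ctx36

end Cfsg.Agent.Lib.Helper24
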