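import Mathlib
import Cfsg.Agent.Lib.Helper24.BG36c
import Cfsg.Agent.Lib.Helper22.SupLemmas
import Cfsg.Agent.Lib.Helper47.AxB

/-!
# BG 3.6, Theorem B: the abelian case
-/

set_option autoImplicit false
set_option linter.unusedSectionVars false
set_option linter.unusedVariables false

namespace Cfsg.Agent.Lib.Helper24

open Subgroup
open scoped Pointwise commutatorElement

variable {X : Type*} [Group X] [Finite X]

theorem exists_ne_one_of_ne_bot' {H : Subgroup X} (h : H ≠ ⊥) : ∃ x ∈ H, x ≠ 1 := by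
  by_contra hcon
  push Not at hcon
  exact h ((eq_bot_iff_forall H).2 hcon)

/-- hyperplanes of `Q` -/
def Hyp (q : ℕ) (Q D : Subgroup X) : Prop := D ≤ Q ∧ Nat.card D * q = Nat.card Q

theorem Hyp.conj {q : ℕ} {Q D : Subgroup X} {g : X} (hg : g ∈ normalizer (Q : Set X))
    (hD : Hyp q Q D) : Hyp q Q (MulAut.conj g • D) :=
  ⟨conj_smul_le hg hD.1, by rw [Cfsg.Agent.Lib.Helper10.card_conj_smul]; exact hD.2⟩

namespace Ctx36

variable {p q r : ℕ} {V Q P R₀ : Subgroup X}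

section basic2
variable (h : Ctx36 p q r V Q P R₀)
include h

theorem U_le : ⁅V, Q⁆ ≤ V := le_normalizer_iff_commutator_le_left.1 h.hQV

theorem U_inf_cent : ⁅V, Q⁆ ⊓ centralizer (Q : Set X) = ⊥ :=
  Cfsg.Agent.Lib.Helper48.commutator_inf_centralizer_eq_bot h.hV.1 h.hQV
    (fun v hv hv1 => eq_one_of_pow_coprime (cop_pgroups h.hp h.hq h.hpq h.hVp h.hQ) hv hv1)

theorem U_sup [Group.IsSolvable X] : ⁅V, Q⁆ ⊔ (V ⊓ centralizer (Q : Set X)) = V :=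
  Cfsg.Agent.Lib.Helper1.commutator_sup_centralizer Q V h.hQV
    (cop_pgroups h.hq h.hp h.hpq.symm h.hQ h.hVp) (Or.inl inferInstance)

theorem Q_norm_U : Q ≤ normalizer ((⁅V, Q⁆ : Subgroup X) : Set X) :=
  normalizer_commutator_ge_right V Q

theorem P_norm_U : P ≤ normalizer ((⁅V, Q⁆ : Subgroup X) : Set X) :=
  (le_inf h.hPV h.hPQ).trans (normalizer_inf_le_normalizer_commutator V Q)

theorem R_norm_U : R₀ ≤ normalizer ((⁅V, Q⁆ : Subgroup X) : Set X) :=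
  (le_inf h.hRV h.hRQ).trans (normalizer_inf_le_normalizer_commutator V Q)

theorem hUc : IsMulCommutative ↥⁅V, Q⁆ := isMulCommutative_of_le' h.hV.1 h.U_le

theorem hUp : IsPGroup p ↥⁅V, Q⁆ := h.hVp.to_le h.U_le

theorem K_inf_cent {D : Subgroup X} (hD : D ≤ Q) :
    ⁅⁅V, Q⁆, D⁆ ⊓ centralizer (D : Set X) = ⊥ :=
  Cfsg.Agent.Lib.Helper48.commutator_inf_centralizer_eq_bot h.hUc (hD.trans h.Q_norm_U)
    (fun v hv hv1 => eq_one_of_pow_coprime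
      (cop_pgroups h.hp h.hq h.hpq h.hUp (h.hQ.to_le hD)) hv hv1)

theorem conj_mem_W {g w : X} {D : Subgroup X}
    (hgU : g ∈ normalizer ((⁅V, Q⁆ : Subgroup X) : Set X))
    (hw : w ∈ ⁅V, Q⁆ ⊓ centralizer (D : Set X)) :
    g * w * g⁻¹ ∈ ⁅V, Q⁆ ⊓ centralizer ((MulAut.conj g • D : Subgroup X) : Set X) :=
  ⟨(mem_normalizer_iff.1 hgU w).1 hw.1, conj_mem_centralizer_conj_smul hw.2⟩

theorem eq_F_of_ne_bot {Y : Subgroup X} (hY : Y ≤ V ⊓ centralizer (R₀ : Set X)) (hY1 : Y ≠ ⊥) :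
    Y = V ⊓ centralizer (R₀ : Set X) := by
  have h1 : Nat.card Y ∣ p := h.hCV ▸ card_dvd_of_le hY
  rcases (Nat.dvd_prime h.hp).1 h1 with h2 | h2
  · exact absurd (card_eq_one.1 h2) hY1
  · exact eq_of_le_of_card_ge hY (by rw [h.hCV, h2])

theorem A_le : ⁅Q, R₀⁆ ≤ Q := le_normalizer_iff_commutator_le_left.1 h.hRQ

theorem R_norm_A : R₀ ≤ normalizer ((⁅Q, R₀⁆ : Subgroup X) : Set X) :=
  normalizer_commutator_ge_right Q R₀

end basic2

section ab2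
variable (h : Ctx36 p q r V Q P R₀) (hab : ∀ a ∈ Q, ∀ b ∈ Q, a * b = b * a) (hQ1 : Q ≠ ⊥)
include h hab

theorem A_inf_cent : ⁅Q, R₀⁆ ⊓ centralizer (R₀ : Set X) = ⊥ :=
  Cfsg.Agent.Lib.Helper48.commutator_inf_centralizer_eq_bot (h.hQc hab) h.hRQ
    (fun v hv hv1 => eq_one_of_pow_coprime
      (by rw [h.hR₀]; exact cop_pgroup_prime h.hq h.hr h.hqr h.hQ) hv hv1)

theorem A_sup [Group.IsSolvable X] : ⁅Q, R₀⁆ ⊔ (Q ⊓ centralizer (R₀ : Set X)) = Q :=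
  Cfsg.Agent.Lib.Helper1.commutator_sup_centralizer R₀ Q h.hRQ
    (by rw [h.hR₀]; exact (cop_pgroup_prime h.hq h.hr h.hqr h.hQ).symm) (Or.inl inferInstance)

theorem W_le_K [Group.IsSolvable X] {D D' : Subgroup X} (hD : Hyp q Q D) (hD' : Hyp q Q D')
    (hne : D ≠ D') : ⁅V, Q⁆ ⊓ centralizer (D' : Set X) ≤ ⁅⁅V, Q⁆, D⁆ := by
  set W := ⁅V, Q⁆ ⊓ centralizer (D' : Set X) with hW
  have hQW : Q ≤ normalizer (W : Set X) :=
    Cfsg.Agent.Lib.Helper22.le_normalizer_inf_centralizer h.Q_norm_U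
      (le_normalizer_of_ab hab hD'.1)
  have h1 : ⁅W, Q⁆ ⊔ (W ⊓ centralizer (Q : Set X)) = W :=
    Cfsg.Agent.Lib.Helper1.commutator_sup_centralizer Q W hQW
      (cop_pgroups h.hq h.hp h.hpq.symm h.hQ (h.hUp.to_le inf_le_left)) (Or.inl inferInstance)
  have h2 : W ⊓ centralizer (Q : Set X) = ⊥ := by
    rw [eq_bot_iff, ← h.U_inf_cent]
    exact inf_le_inf_right _ inf_le_left
  rw [h2, sup_bot_eq] at h1
  rw [← h1, commutator_le]
  intro w hw g hg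
  have hsup := sup_eq_of_hyp h.hq hD.1 hD'.1 hD.2 hD'.2 hne
  rw [← hsup] at hg
  obtain ⟨d, hd, d', hd', rfl⟩ := (Cfsg.Agent.Lib.Helper22.mem_sup_of_le_normalizer
    (hD'.1.trans (le_normalizer_of_ab hab hD.1))).1 hg
  have hc : Commute d' w := mem_centralizer_iff.1 hw.2 d' hd'
  have hc' : d' * w⁻¹ = w⁻¹ * d' := hc.inv_right
  have h3 : ⁅w, d * d'⁆ = ⁅w, d⁆ := by
    rw [commutatorElement_def, commutatorElement_def]
    calc w * (d * d') * w⁻¹ * (d * d')⁻¹ = w * d * (d' * w⁻¹) * d'⁻¹ * d⁻¹ := by group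
      _ = w * d * w⁻¹ * d⁻¹ := by rw [hc']; group
  rw [h3]
  exact commutator_mem_commutator hw.1 hd

/-- the norm element attached to a non-invariant hyperplane -/
theorem exists_f [Group.IsSolvable X] {D : Subgroup X} (hD : Hyp q Q D)
    (hRD : ¬ R₀ ≤ normalizer (D : Set X)) {w : X} (hw : w ∈ ⁅V, Q⁆ ⊓ centralizer (D : Set X)) :
    ∃ f ∈ V ⊓ centralizer (R₀ : Set X), w⁻¹ * f ∈ ⁅⁅V, Q⁆, D⁆ ∧
      ∀ D' : Subgroup X, Hyp q Q D' → (∀ g ∈ R₀, D' ≠ MulAut.conj g • D) → f ∈ ⁅⁅V, Q⁆, D'⁆ := by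
  obtain ⟨f, hf, hfK⟩ := nrm_exists h.hV.1 h.hRV (h.U_le hw.1)
  refine ⟨f, hf, ?_, ?_⟩
  · apply hfK
    intro g hg hg1
    have hgD : g ∉ normalizer (D : Set X) := by
      intro hgn
      apply hRD
      rw [← zpowers_eq_of_prime_card h.hr h.hR₀ hg hg1, zpowers_le]
      exact hgn
    have hne : D ≠ MulAut.conj g • D := by
      intro he
      exact hgD ((Cfsg.Agent.Lib.Helper10.conj_smul_eq_iff_mem_normalizer D g).1 he.symm)
    exact h.W_le_K hab hD (hD.conj (h.hRQ hg)) hne (h.conj_mem_W (h.R_norm_U hg) hw)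
  · intro D' hD' hall
    have h1 : w⁻¹ * f ∈ ⁅⁅V, Q⁆, D'⁆ := by
      apply hfK
      intro g hg _
      exact h.W_le_K hab hD' (hD.conj (h.hRQ hg)) (hall g hg) (h.conj_mem_W (h.R_norm_U hg) hw)
    have h2 : w ∈ ⁅⁅V, Q⁆, D'⁆ := by
      have h3 := hall 1 R₀.one_mem
      rw [map_one, one_smul] at h3
      exact h.W_le_K hab hD' hD h3 hw
    have h4 : f = w * (w⁻¹ * f) := by group
    rw [h4]
    exact mul_mem h2 h1

variable (hF : FrobFormula X) [Group.IsSolvable X]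
include hQ1 hF

theorem card_A : Nat.card ↥⁅Q, R₀⁆ * q = Nat.card Q := by
  have h1 := Cfsg.Agent.Lib.Helper10.card_sup_mul_card_inf ⁅Q, R₀⁆ (Q ⊓ centralizer (R₀ : Set X))
    (h.A_le.trans (le_normalizer_of_ab hab inf_le_left))
  have h2 : ⁅Q, R₀⁆ ⊓ (Q ⊓ centralizer (R₀ : Set X)) = ⊥ := by
    rw [eq_bot_iff, ← h.A_inf_cent hab]
    exact inf_le_inf_left _ inf_le_right
  rw [h.A_sup hab, h2, card_bot, mul_one, h.card_C hab hQ1 hF] at h1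
  exact h1.symm

theorem hypA : Hyp q Q ⁅Q, R₀⁆ := ⟨h.A_le, h.card_A hab hQ1 hF⟩

theorem A_ne_bot : ⁅Q, R₀⁆ ≠ ⊥ := by
  intro hA
  have h1 := h.card_A hab hQ1 hF
  rw [hA, card_bot, one_mul, h.card_Q' hab hQ1 hF] at h1
  have h2 : q ^ 1 = q ^ r := by rw [pow_one]; exact h1
  have h3 := Nat.pow_right_injective h.hq.two_le h2
  exact h.hr.one_lt.ne h3

theorem F_le_W {D : Subgroup X} (hD : Hyp q Q D) (hW : ⁅V, Q⁆ ⊓ centralizer (D : Set X) ≠ ⊥)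
    (hDA : D ≠ ⁅Q, R₀⁆) (hRD : R₀ ≤ normalizer (D : Set X)) :
    V ⊓ centralizer (R₀ : Set X) ≤ ⁅V, Q⁆ ⊓ centralizer (D : Set X) := by
  set W := ⁅V, Q⁆ ⊓ centralizer (D : Set X) with hWdef
  have hWp : IsPGroup p W := h.hUp.to_le inf_le_left
  have hAq : IsPGroup q ↥⁅Q, R₀⁆ := h.hQ.to_le h.A_le
  have hQW : Q ≤ normalizer (W : Set X) :=
    Cfsg.Agent.Lib.Helper22.le_normalizer_inf_centralizer h.Q_norm_U
      (le_normalizer_of_ab hab hD.1)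
  have hRW : R₀ ≤ normalizer (W : Set X) :=
    Cfsg.Agent.Lib.Helper22.le_normalizer_inf_centralizer h.R_norm_U hRD
  have h1 := frob_formula hF h.hr h.hR₀ (h.A_ne_bot hab hQ1 hF) h.R_norm_A (h.A_inf_cent hab)
    (h.A_le.trans hQW) hRW (cop_pgroups h.hp h.hq h.hpq hWp hAq)
    (cop_pgroup_prime h.hp h.hr h.hpr hWp) (cop_pgroup_prime h.hq h.hr h.hqr hAq)
  have h2 : W ⊓ centralizer ((⁅Q, R₀⁆ : Subgroup X) : Set X) = ⊥ := by
    have h6 : centralizer (Q : Set X) =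
        centralizer (D : Set X) ⊓ centralizer ((⁅Q, R₀⁆ : Subgroup X) : Set X) := by
      rw [← centralizer_sup_eq, sup_eq_of_hyp h.hq hD.1 h.A_le hD.2 (h.card_A hab hQ1 hF) hDA]
    rw [eq_bot_iff, ← h.U_inf_cent, h6, hWdef, inf_assoc]
  have h3 : W ⊓ (centralizer ((⁅Q, R₀⁆ : Subgroup X) : Set X) ⊓ centralizer (R₀ : Set X)) = ⊥ := by
    rw [← inf_assoc, h2, bot_inf_eq]
  rw [h2, h3, card_bot, one_pow, one_mul, mul_one] at h1
  have h4 : W ⊓ centralizer (R₀ : Set X) ≠ ⊥ := by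
    intro h5
    rw [h5, card_bot, one_pow, card_eq_one] at h1
    exact hW h1
  have h5 := h.eq_F_of_ne_bot (inf_le_inf_right _ (inf_le_left.trans h.U_le)) h4
  rw [← h5]
  exact inf_le_left

theorem F_ne_bot : V ⊓ centralizer (R₀ : Set X) ≠ ⊥ := by
  intro h1
  have := h.hCV
  rw [h1, card_bot] at this
  exact h.hp.one_lt.ne this

theorem not_F_le_K {D : Subgroup X} (hD : Hyp q Q D)
    (hW : ⁅V, Q⁆ ⊓ centralizer (D : Set X) ≠ ⊥) (hDA : D ≠ ⁅Q, R₀⁆) :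
    ¬ (V ⊓ centralizer (R₀ : Set X) ≤ ⁅⁅V, Q⁆, D⁆) := by
  intro hle
  by_cases hRD : R₀ ≤ normalizer (D : Set X)
  · have h1 := h.F_le_W hab hQ1 hF hD hW hDA hRD
    have h2 : V ⊓ centralizer (R₀ : Set X) ≤ ⁅⁅V, Q⁆, D⁆ ⊓ centralizer (D : Set X) :=
      le_inf hle (h1.trans inf_le_right)
    rw [h.K_inf_cent hD.1, le_bot_iff] at h2
    exact h.F_ne_bot hab hQ1 hF h2
  · obtain ⟨w, hw, hw1⟩ := exists_ne_one_of_ne_bot' hW
    obtain ⟨f, hf, hfK, -⟩ := h.exists_f hab hD hRD hw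
    have h1 : w ∈ ⁅⁅V, Q⁆, D⁆ := by
      have h2 : w = f * (w⁻¹ * f)⁻¹ := by group
      rw [h2]
      exact mul_mem (hle hf) (inv_mem hfK)
    have h2 : w ∈ ⁅⁅V, Q⁆, D⁆ ⊓ centralizer (D : Set X) := ⟨h1, hw.2⟩
    rw [h.K_inf_cent hD.1] at h2
    exact hw1 (mem_bot.1 h2)

end ab2

end Ctx36

end Cfsg.Agent.Lib.Helper24
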