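import Mathlib
import Cfsg.Agent.Lib.Helper24.BG36d

/-!
# BG 3.6, Theorem B: the abelian case, conclusion
-/

set_option autoImplicit false
set_option linter.unusedSectionVars false
set_option linter.unusedVariables false

namespace Cfsg.Agent.Lib.Helper24

open Subgroup
open scoped Pointwise commutatorElement

variable {X : Type*} [Group X] [Finite X]

namespace Ctx36

variable {p q r : ℕ} {V Q P R₀ : Subgroup X}

section ab3
variable (h : Ctx36 p q r V Q P R₀) (hab : ∀ a ∈ Q, ∀ b ∈ Q, a * b = b * a) (hQ1 : Q ≠ ⊥)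
variable (hF : FrobFormula X) [Group.IsSolvable X]
include h hab hQ1 hF

theorem exists_D0 (hodd : Odd (Nat.card X)) : ∃ D0 : Subgroup X, Hyp q Q D0 ∧
    ⁅V, Q⁆ ⊓ centralizer (D0 : Set X) ≠ ⊥ ∧ ¬ R₀ ≤ normalizer (D0 : Set X) := by
  have : Fact q.Prime := ⟨h.hq⟩
  by_contra hcon
  push Not at hcon
  have hA := h.hypA hab hQ1 hF
  have key : ∃ D1 : Subgroup X, Hyp q Q D1 ∧ ∀ D : Subgroup X, Hyp q Q D →
      ⁅V, Q⁆ ⊓ centralizer (D : Set X) ≠ ⊥ → D = ⁅Q, R₀⁆ ∨ D = D1 := by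
    by_cases hex : ∃ D1 : Subgroup X, Hyp q Q D1 ∧ ⁅V, Q⁆ ⊓ centralizer (D1 : Set X) ≠ ⊥ ∧
        D1 ≠ ⁅Q, R₀⁆
    · obtain ⟨D1, hD1, hW1, hD1A⟩ := hex
      refine ⟨D1, hD1, fun D hD hW => ?_⟩
      by_cases hDA : D = ⁅Q, R₀⁆
      · exact Or.inl hDA
      · right
        by_contra hne
        have h1 := h.F_le_W hab hQ1 hF hD hW hDA (hcon D hD hW)
        have h2 := h.F_le_W hab hQ1 hF hD1 hW1 hD1A (hcon D1 hD1 hW1)
        have h3 : centralizer (Q : Set X) = centralizer (D : Set X) ⊓ centralizer (D1 : Set X) := by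
          rw [← centralizer_sup_eq, sup_eq_of_hyp h.hq hD.1 hD1.1 hD.2 hD1.2 hne]
        have h4 : V ⊓ centralizer (R₀ : Set X) ≤ ⁅V, Q⁆ ⊓ centralizer (Q : Set X) := by
          rw [h3]
          exact le_inf (h1.trans inf_le_left) (le_inf (h1.trans inf_le_right) (h2.trans inf_le_right))
        rw [h.U_inf_cent, le_bot_iff] at h4
        exact h.F_ne_bot hab hQ1 hF h4
    · push Not at hex
      exact ⟨⁅Q, R₀⁆, hA, fun D hD hW => Or.inl (hex D hD hW)⟩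
  obtain ⟨D1, hD1, hall⟩ := key
  have hqQ : q ≤ Nat.card Q := by
    rw [← hA.2]
    exact Nat.le_mul_of_pos_left q Nat.card_pos
  have hqU : ¬ q ∣ Nat.card ↥⁅V, Q⁆ := by
    intro hd
    have := (cop_pgroup_prime h.hp h.hq h.hpq h.hUp)
    exact h.hq.one_lt.ne' (Nat.eq_one_of_dvd_coprimes this hd dvd_rfl)
  have hU : ⁅V, Q⁆ ≤ centralizer ((⁅Q, R₀⁆ ⊓ D1 : Subgroup X) : Set X) := by
    refine (Cfsg.Agent.Lib.Helper22.le_iSup_centralizer_hyperplane Q ⁅V, Q⁆ hab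
      (h.exp_q hab hQ1) hqQ hqU h.Q_norm_U).trans (iSup_le ?_)
    rintro ⟨B, hBQ, hBi⟩
    have hB : Hyp q Q B := ⟨hBQ, by rw [← hBi]; exact Cfsg.Agent.Lib.Helper10.card_mul_relIndex hBQ⟩
    by_cases hWB : ⁅V, Q⁆ ⊓ centralizer (B : Set X) = ⊥
    · change ⁅V, Q⁆ ⊓ centralizer (B : Set X) ≤ _
      rw [hWB]; exact bot_le
    · change ⁅V, Q⁆ ⊓ centralizer (B : Set X) ≤ _
      rcases hall B hB hWB with hB' | hB'
      · rw [hB']
        exact inf_le_right.trans (centralizer_le (by exact_mod_cast (inf_le_left : ⁅Q, R₀⁆ ⊓ D1 ≤ _)))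
      · rw [hB']
        exact inf_le_right.trans (centralizer_le (by exact_mod_cast (inf_le_right : ⁅Q, R₀⁆ ⊓ D1 ≤ _)))
  have hYQ : ⁅Q, R₀⁆ ⊓ D1 ≤ Q := inf_le_left.trans h.A_le
  have hV : V ≤ centralizer ((⁅Q, R₀⁆ ⊓ D1 : Subgroup X) : Set X) := by
    rw [← h.U_sup]
    exact sup_le hU (inf_le_right.trans (centralizer_le (by exact_mod_cast hYQ)))
  have hY : ⁅Q, R₀⁆ ⊓ D1 ≤ Q ⊓ centralizer (V : Set X) := le_inf hYQ (le_centralizer_iff.1 hV)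
  rw [h.hfaith, le_bot_iff] at hY
  have h1 := Cfsg.Agent.Lib.Helper10.card_mul_card_le ⁅Q, R₀⁆ D1
  rw [hY, card_bot, mul_one] at h1
  have h2 : Nat.card ↥(⁅Q, R₀⁆ ⊔ D1) ≤ Nat.card Q := card_le_of_le (sup_le h.A_le hD1.1)
  have h3 : Nat.card ↥⁅Q, R₀⁆ * Nat.card D1 ≤ Nat.card ↥⁅Q, R₀⁆ * q := by
    rw [hA.2]; exact h1.trans h2
  have h4 : Nat.card D1 ≤ q := Nat.le_of_mul_le_mul_left h3 Nat.card_pos
  have h5 : q ^ r ≤ q ^ 2 := by
    rw [← h.card_Q' hab hQ1 hF, ← hD1.2, pow_two]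
    exact Nat.mul_le_mul_right q h4
  have h6 := (Nat.pow_le_pow_iff_right h.hq.one_lt).1 h5
  have h7 := h.three_le_r hodd
  omega

theorem all_hyp {D0 : Subgroup X} (hD0 : Hyp q Q D0)
    (hW0 : ⁅V, Q⁆ ⊓ centralizer (D0 : Set X) ≠ ⊥) (hR0 : ¬ R₀ ≤ normalizer (D0 : Set X))
    {D' : Subgroup X} (hD' : Hyp q Q D') (hW' : ⁅V, Q⁆ ⊓ centralizer (D' : Set X) ≠ ⊥) :
    D' = ⁅Q, R₀⁆ ∨ ∃ g ∈ R₀, D' = MulAut.conj g • D0 := by
  by_contra hcon
  push Not at hcon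
  obtain ⟨hne, hall⟩ := hcon
  obtain ⟨w, hw, hw1⟩ := exists_ne_one_of_ne_bot' hW0
  obtain ⟨f, hf, hfK, hfall⟩ := h.exists_f hab hD0 hR0 hw
  have hf1 : f ≠ 1 := by
    intro hf1
    rw [hf1, mul_one] at hfK
    have h2 : w ∈ ⁅⁅V, Q⁆, D0⁆ ⊓ centralizer (D0 : Set X) := ⟨by simpa using inv_mem hfK, hw.2⟩
    rw [h.K_inf_cent hD0.1] at h2
    exact hw1 (mem_bot.1 h2)
  have h1 : zpowers f = V ⊓ centralizer (R₀ : Set X) :=
    h.eq_F_of_ne_bot (by rwa [zpowers_le]) (by rwa [Ne, zpowers_eq_bot])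
  apply h.not_F_le_K hab hQ1 hF hD' hW' hne
  rw [← h1, zpowers_le]
  exact hfall D' hD' hall

theorem card_W0 {D0 : Subgroup X} (hD0 : Hyp q Q D0)
    (hW0 : ⁅V, Q⁆ ⊓ centralizer (D0 : Set X) ≠ ⊥) (hR0 : ¬ R₀ ≤ normalizer (D0 : Set X)) :
    Nat.card ↥(⁅V, Q⁆ ⊓ centralizer (D0 : Set X)) = p := by
  have : Fact p.Prime := ⟨h.hp⟩
  have hex : ∀ w : ↥(⁅V, Q⁆ ⊓ centralizer (D0 : Set X)),
      ∃ f : ↥(V ⊓ centralizer (R₀ : Set X)), (w : X)⁻¹ * f ∈ ⁅⁅V, Q⁆, D0⁆ := by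
    intro w
    obtain ⟨f, hf, hfK, -⟩ := h.exists_f hab hD0 hR0 w.2
    exact ⟨⟨f, hf⟩, hfK⟩
  choose φ hφ using hex
  have hinj : Function.Injective φ := by
    intro w w' hww
    have h1 := hφ w
    have h2 := hφ w'
    rw [← hww] at h2
    have h3 : (w : X)⁻¹ * w' ∈ ⁅⁅V, Q⁆, D0⁆ := by
      have h4 : (w : X)⁻¹ * w' = ((w : X)⁻¹ * φ w) * ((w' : X)⁻¹ * φ w)⁻¹ := by group
      rw [h4]
      exact mul_mem h1 (inv_mem h2)
    have h5 : (w : X)⁻¹ * w' ∈ ⁅⁅V, Q⁆, D0⁆ ⊓ centralizer (D0 : Set X) :=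
      ⟨h3, (centralizer (D0 : Set X)).mul_mem ((centralizer (D0 : Set X)).inv_mem w.2.2) w'.2.2⟩
    rw [h.K_inf_cent hD0.1, mem_bot] at h5
    exact Subtype.ext (inv_mul_eq_one.1 h5)
  have h1 : Nat.card ↥(⁅V, Q⁆ ⊓ centralizer (D0 : Set X)) ≤ p := by
    rw [← h.hCV]
    exact Nat.card_le_card_of_injective φ hinj
  have hWp : IsPGroup p ↥(⁅V, Q⁆ ⊓ centralizer (D0 : Set X)) := h.hUp.to_le inf_le_left
  rcases hWp.card_eq_or_dvd with h2 | h2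
  · exact absurd (card_eq_one.1 h2) hW0
  · exact le_antisymm h1 (Nat.le_of_dvd Nat.card_pos h2)

theorem not_P_norm {D0 : Subgroup X} (hD0 : Hyp q Q D0)
    (hW0 : ⁅V, Q⁆ ⊓ centralizer (D0 : Set X) ≠ ⊥) (hR0 : ¬ R₀ ≤ normalizer (D0 : Set X)) :
    ¬ P ≤ normalizer (D0 : Set X) := by
  have : Fact p.Prime := ⟨h.hp⟩
  intro hPD
  set W := ⁅V, Q⁆ ⊓ centralizer (D0 : Set X) with hWdef
  have hWp : IsPGroup p W := h.hUp.to_le inf_le_left
  have hPW : P ≤ normalizer (W : Set X) :=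
    Cfsg.Agent.Lib.Helper22.le_normalizer_inf_centralizer h.P_norm_U hPD
  have hQW : Q ≤ normalizer (W : Set X) :=
    Cfsg.Agent.Lib.Helper22.le_normalizer_inf_centralizer h.Q_norm_U
      (le_normalizer_of_ab hab hD0.1)
  have h1 := Cfsg.Agent.Lib.Helper47.inf_centralizer_ne_bot hWp h.hP hW0 hPW
  have hcard := h.card_W0 hab hQ1 hF hD0 hW0 hR0
  have h2 : W ⊓ centralizer (P : Set X) = W := by
    have h3 : Nat.card ↥(W ⊓ centralizer (P : Set X)) ∣ p := hcard ▸ card_dvd_of_le inf_le_left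
    rcases (Nat.dvd_prime h.hp).1 h3 with h4 | h4
    · exact absurd (card_eq_one.1 h4) h1
    · exact eq_of_le_of_card_ge inf_le_left (by rw [h4]; exact hcard.le)
  have hWP : W ≤ centralizer (P : Set X) := inf_eq_left.1 h2
  have hQc : Q ≤ centralizer (W : Set X) := by
    rw [← h.hcomm, commutator_le]
    intro g hg u hu
    rw [mem_centralizer_iff]
    intro w hw
    have hw' : g⁻¹ * w * g ∈ W := by
      have := (mem_normalizer_iff.1 (hQW (Q.inv_mem hg)) w).1 hw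
      simpa using this
    have e1 : u * w = w * u := mem_centralizer_iff.1 (hWP hw) u hu
    have e2 : u * (g⁻¹ * w * g) = (g⁻¹ * w * g) * u := mem_centralizer_iff.1 (hWP hw') u hu
    have e3 : u⁻¹ * w = w * u⁻¹ := by
      calc u⁻¹ * w = u⁻¹ * (w * u) * u⁻¹ := by group
        _ = u⁻¹ * (u * w) * u⁻¹ := by rw [e1]
        _ = w * u⁻¹ := by group
    rw [commutatorElement_def]
    calc w * (g * u * g⁻¹ * u⁻¹) = g * ((g⁻¹ * w * g) * u) * g⁻¹ * u⁻¹ := by group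
      _ = g * (u * (g⁻¹ * w * g)) * g⁻¹ * u⁻¹ := by rw [e2]
      _ = g * u * g⁻¹ * (w * u⁻¹) := by group
      _ = g * u * g⁻¹ * (u⁻¹ * w) := by rw [e3]
      _ = g * u * g⁻¹ * u⁻¹ * w := by group
  have h3 : W ≤ ⁅V, Q⁆ ⊓ centralizer (Q : Set X) := le_inf inf_le_left (le_centralizer_iff.1 hQc)
  rw [h.U_inf_cent, le_bot_iff] at h3
  exact hW0 h3

/-- The abelian case of Theorem B is impossible. -/
theorem ab_false (hodd : Odd (Nat.card X)) : False := by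
  obtain ⟨D0, hD0, hW0, hR0⟩ := h.exists_D0 hab hQ1 hF hodd
  apply h.not_P_norm hab hQ1 hF hD0 hW0 hR0
  let _ : MulAction X (Subgroup X) := MulAction.compHom (Subgroup X) (MulAut.conj (G := X))
  have key := orbit_lemma (Γ := X) (S := Subgroup X) h.hp h.hr h.hpr (h.p_odd hodd) (h.r_odd hodd)
    P R₀ h.hP h.hR₀ h.hRP D0 ⁅Q, R₀⁆
    (fun g hg => (Cfsg.Agent.Lib.Helper10.conj_smul_eq_iff_mem_normalizer _ g).2 (h.R_norm_A hg))
    (by
      by_contra hcon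
      push Not at hcon
      apply hR0
      intro g hg
      exact (Cfsg.Agent.Lib.Helper10.conj_smul_eq_iff_mem_normalizer _ g).1 (hcon g hg))
    (by
      intro u hu
      have hW' : ⁅V, Q⁆ ⊓ centralizer ((MulAut.conj u • D0 : Subgroup X) : Set X) ≠ ⊥ := by
        obtain ⟨w, hw, hw1⟩ := exists_ne_one_of_ne_bot' hW0
        intro hbot
        have h1 := h.conj_mem_W (h.P_norm_U hu) hw
        rw [hbot, mem_bot] at h1
        apply hw1
        have : w = u⁻¹ * (u * w * u⁻¹) * u := by group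
        rw [this, h1]; group
      exact h.all_hyp hab hQ1 hF hD0 hW0 hR0 (hD0.conj (h.hPQ hu)) hW')
  intro u hu
  exact (Cfsg.Agent.Lib.Helper10.conj_smul_eq_iff_mem_normalizer _ u).1 (key u hu)

end ab3

end Ctx36

end Cfsg.Agent.Lib.Helper24
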