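import Mathlib
import Cfsg.Agent.Lib.Helper24.BG36e
import Cfsg.Agent.Lib.Helper24.U95a
import Cfsg.Agent.Lib.Helper11.BG36n

/-!
# BG 3.6, Theorem B
-/

set_option autoImplicit false
set_option linter.unusedSectionVars false
set_option linter.unusedVariables false

namespace Cfsg.Agent.Lib.Helper24

open Subgroup
open scoped Pointwise commutatorElement

variable {X : Type*} [Group X] [Finite X]

theorem isCyclic_of_le'' {A B : Subgroup X} (hB : IsCyclic B) (hAB : A ≤ B) : IsCyclic A :=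
  isCyclic_of_injective (inclusion hAB) (inclusion_injective hAB)

theorem exists_orderOf_eq_of_pgroup {p : ℕ} (hp : p.Prime) {H : Subgroup X} (hH : IsPGroup p H)
    (hH1 : H ≠ ⊥) : ∃ z ∈ H, orderOf z = p := by
  have : Fact p.Prime := ⟨hp⟩
  rcases hH.card_eq_or_dvd with h | h
  · exact absurd (card_eq_one.1 h) hH1
  · obtain ⟨z, hz⟩ := exists_prime_orderOf_dvd_card' (G := H) p h
    exact ⟨z, z.2, by rwa [Subgroup.orderOf_coe]⟩

/-- **Theorem B** of the proof of BG 3.6. -/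
theorem bg36_core [Group.IsSolvable X] (hF : FrobFormula X) (hH : HH3769 X)
    (hodd : Odd (Nat.card X)) {p q r : ℕ} (hp : p.Prime) (hq : q.Prime) (hr : r.Prime)
    (hpq : p ≠ q) (hpr : p ≠ r) (hqr : q ≠ r) (V Q P R₀ : Subgroup X)
    (hV : Cfsg.IsElementaryAbelian p V) (hQ : IsPGroup q Q) (hP : IsPGroup p P)
    (hR₀ : Nat.card R₀ = r) (hQV : Q ≤ normalizer (V : Set X)) (hPV : P ≤ normalizer (V : Set X))
    (hRV : R₀ ≤ normalizer (V : Set X)) (hPQ : P ≤ normalizer (Q : Set X))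
    (hRQ : R₀ ≤ normalizer (Q : Set X)) (hRP : R₀ ≤ normalizer (P : Set X))
    (hfaith : Q ⊓ centralizer (V : Set X) = ⊥) (hPU : P ⊓ ⁅V, Q⁆ = ⊥)
    (hZp : IsCyclic ↥((V ⊔ P) ⊓ centralizer (R₀ : Set X)))
    (hZq : IsCyclic ↥(Q ⊓ centralizer (R₀ : Set X))) :
    Q ≤ centralizer (R₀ : Set X) ∨ Q ≤ centralizer (P : Set X) := by
  by_contra hcon
  push Not at hcon
  obtain ⟨hQR, hQP⟩ := hcon
  have hVp : IsPGroup p V := isPGroup_of_exponent hV.2
  have hUV : ⁅V, Q⁆ ≤ V := le_normalizer_iff_commutator_le_left.1 hQV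
  have hUsup : ⁅V, Q⁆ ⊔ (V ⊓ centralizer (Q : Set X)) = V :=
    Cfsg.Agent.Lib.Helper1.commutator_sup_centralizer Q V hQV
      (cop_pgroups hq hp hpq.symm hQ hVp) (Or.inl inferInstance)
  have hQr : (Nat.card Q).Coprime r := cop_pgroup_prime hq hr hqr hQ
  -- (i)
  have hi : ⁅V, Q⁆ ⊓ centralizer (R₀ : Set X) ≠ ⊥ := by
    intro hbot
    have hQR0 : Q ⊓ R₀ = ⊥ := inf_eq_bot_of_coprime' (hR₀ ▸ hQr)
    have hcard : Nat.card ↥(Q ⊔ R₀) = Nat.card Q * r := by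
      have := Cfsg.Agent.Lib.Helper10.card_sup_mul_card_inf' Q R₀ hRQ
      rwa [hQR0, card_bot, mul_one, hR₀] at this
    have hrel : Q.relIndex (Q ⊔ R₀) = r := by
      have h1 := Cfsg.Agent.Lib.Helper10.card_mul_relIndex (le_sup_left : Q ≤ Q ⊔ R₀)
      rw [hcard] at h1
      exact Nat.eq_of_mul_eq_mul_left Nat.card_pos h1
    have hpQ : ¬ p ∣ Nat.card Q := by
      intro hd
      exact hp.one_lt.ne' (Nat.eq_one_of_dvd_coprimes (cop_pgroup_prime hq hp hpq.symm hQ) hd dvd_rfl)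
    have hpR : ¬ p ∣ Nat.card R₀ := by
      rw [hR₀]
      intro hd
      exact hpr ((Nat.prime_dvd_prime_iff_eq hp hr).1 hd)
    have h1 : ⁅R₀, Q⁆ ≤ centralizer ((⁅V, Q⁆ : Subgroup X) : Set X) :=
      hH (Q ⊔ R₀) inferInstance (Odd.of_dvd_nat hodd (card_subgroup_dvd_card _)) ⁅V, Q⁆ hp
        ⟨isMulCommutative_of_le' hV.1 hUV, fun a ha => hV.2 a (hUV ha)⟩
        (Cfsg.Agent.Lib.Helper22.not_dvd_card_sup hp hRQ hpQ hpR)
        (sup_le (normalizer_commutator_ge_right V Q)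
          ((le_inf hRV hRQ).trans (normalizer_inf_le_normalizer_commutator V Q)))
        Q R₀ le_sup_left (sup_le le_normalizer hRQ) (by rw [hrel]; exact hQr) le_sup_right
        (hR₀ ▸ hr) hQR0 rfl hbot
    have h2 : ⁅R₀, Q⁆ ≤ Q := by
      rw [commutator_comm]
      exact le_normalizer_iff_commutator_le_left.1 hRQ
    have h3 : V ≤ centralizer ((⁅R₀, Q⁆ : Subgroup X) : Set X) := by
      rw [← hUsup]
      exact sup_le (le_centralizer_iff.1 h1)
        (inf_le_right.trans (centralizer_le (by exact_mod_cast h2)))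
    have h4 : ⁅R₀, Q⁆ ≤ Q ⊓ centralizer (V : Set X) := le_inf h2 (le_centralizer_iff.1 h3)
    rw [hfaith, le_bot_iff, commutator_eq_bot_iff_le_centralizer] at h4
    exact hQR (le_centralizer_iff.1 h4)
  -- (ii)
  obtain ⟨a, ha, hao⟩ := exists_orderOf_eq_of_pgroup hp (hVp.to_le (inf_le_left.trans hUV)) hi
  have haT : a ∈ (V ⊔ P) ⊓ centralizer (R₀ : Set X) := ⟨mem_sup_left (hUV ha.1), ha.2⟩
  have hCP : P ⊓ centralizer (R₀ : Set X) = ⊥ := by
    by_contra hne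
    obtain ⟨b, hb, hbo⟩ := exists_orderOf_eq_of_pgroup hp (hP.to_le inf_le_left) hne
    have hbT : b ∈ (V ⊔ P) ⊓ centralizer (R₀ : Set X) := ⟨mem_sup_right hb.1, hb.2⟩
    have h1 : a ∈ zpowers b := mem_zpowers_of_isCyclic hZp hp hbT haT hbo
      (by rw [← hao]; exact pow_orderOf_eq_one a)
    have h2 : a ∈ P ⊓ ⁅V, Q⁆ := ⟨(zpowers_le.2 hb.1) h1, ha.1⟩
    rw [hPU, mem_bot] at h2
    rw [h2, orderOf_one] at hao
    exact hp.one_lt.ne hao
  have hCV : Nat.card ↥(V ⊓ centralizer (R₀ : Set X)) = p := by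
    have h1 : V ⊓ centralizer (R₀ : Set X) = zpowers a := by
      apply le_antisymm
      · intro y hy
        exact mem_zpowers_of_isCyclic hZp hp haT ⟨mem_sup_left hy.1, hy.2⟩ hao (hV.2 y hy.1)
      · rw [zpowers_le]
        exact ⟨hUV ha.1, ha.2⟩
    rw [h1, Nat.card_zpowers, hao]
  -- (iii)
  let S : Set (Subgroup X) := {Y | Y ≤ Q ∧ P ≤ normalizer (Y : Set X) ∧
    R₀ ≤ normalizer (Y : Set X) ∧ ¬ Y ≤ centralizer (P : Set X)}
  have hSne : S.Nonempty := ⟨Q, le_rfl, hPQ, hRQ, hQP⟩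
  obtain ⟨Q1, hQ1⟩ := (Set.toFinite S).exists_minimal hSne
  obtain ⟨⟨hQ1Q, hPQ1, hRQ1, hQ1P⟩, hQ1min⟩ := hQ1
  have hQ1q : IsPGroup q Q1 := hQ.to_le hQ1Q
  have hcomm : ⁅Q1, P⁆ = Q1 := by
    have hle : ⁅Q1, P⁆ ≤ Q1 := le_normalizer_iff_commutator_le_left.1 hPQ1
    apply le_antisymm hle
    apply hQ1min _ hle
    refine ⟨hle.trans hQ1Q, normalizer_commutator_ge_right Q1 P,
      (le_inf hRQ1 hRP).trans (normalizer_inf_le_normalizer_commutator Q1 P), ?_⟩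
    intro hc
    have h1 := Cfsg.Agent.Lib.Helper1.commutator_commutator_eq P Q1 hPQ1
      (cop_pgroups hp hq hpq hP hQ1q) (Or.inl inferInstance)
    rw [commutator_eq_bot_iff_le_centralizer.2 hc] at h1
    exact hQ1P (commutator_eq_bot_iff_le_centralizer.1 h1.symm)
  have ctx : Ctx36 p q r V Q1 P R₀ :=
    { hp := hp, hq := hq, hr := hr, hpq := hpq, hpr := hpr, hqr := hqr, hV := hV, hQ := hQ1q
      hP := hP, hR₀ := hR₀, hQV := hQ1Q.trans hQV, hPV := hPV, hRV := hRV, hPQ := hPQ1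
      hRQ := hRQ1, hRP := hRP
      hfaith := by
        rw [eq_bot_iff, ← hfaith]
        exact inf_le_inf_right _ hQ1Q
      hCP := hCP, hCV := hCV
      hZq := isCyclic_of_le'' hZq (inf_le_inf_right _ hQ1Q)
      hcomm := hcomm
      hmin := by
        intro Y hY hYne hPY hRY
        by_contra hYP
        exact hYne (le_antisymm hY (hQ1min ⟨hY.trans hQ1Q, hPY, hRY, hYP⟩ hY)) }
  have hab := Cfsg.Agent.Lib.Helper11.BG36n.bg36_nonab hF hp hq hr hpq hpr hqr V Q1 P R₀ hV hQ1q hP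
    hR₀ ctx.hQV hPV hRV hPQ1 hRQ1 hRP ctx.hfaith hCP hCV ctx.hZq hcomm ctx.hmin
  have hQ1ne : Q1 ≠ ⊥ := by
    intro hb
    exact hQ1P (hb ▸ bot_le)
  exact ctx.ab_false hab hQ1ne hF hodd

end Cfsg.Agent.Lib.Helper24
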