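/-
Helper library (helper24): Bender–Glauberman Theorem 10.6 (`p`-length one of proper subgroups).
-/
import Cfsg.Agent.Lib.Helper24.BG10c
import Cfsg.Agent.Lib.Helper24.BGSolv
import Cfsg.Agent.Lib.Helper63.PLength
import Cfsg.Agent.S1403
import Cfsg.Agent.S1407
import Cfsg.Agent.S1444
import Cfsg.Agent.S1459

set_option autoImplicit false
set_option linter.unusedSimpArgs false
set_option linter.unusedVariables false
set_option linter.style.haveILetI false

namespace Cfsg.Agent.Lib.Helper24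

open Cfsg.Agent.Lib.Helper63
open Cfsg.Agent.Lib.Helper34

section general
variable {H : Type*} [Group H] [Finite H]

/-- a normal subgroup containing all `q`-elements has index prime to `q` -/
theorem not_dvd_index_of_pElements (D : Subgroup H) [D.Normal] (q : ℕ) [Fact q.Prime]
    (h : ∀ x : H, (∃ k : ℕ, x ^ q ^ k = 1) → x ∈ D) : ¬ q ∣ D.index := by
  intro hd
  rw [Subgroup.index_eq_card] at hd
  obtain ⟨y, hy⟩ := exists_prime_orderOf_dvd_card' (G := H ⧸ D) q hd
  obtain ⟨x, rfl⟩ := QuotientGroup.mk'_surjective D y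
  obtain ⟨m, a, hm, hma⟩ := exists_pPart q x
  have h1 : x ^ m ∈ D := h _ ⟨a, hma⟩
  have h2 : (QuotientGroup.mk' D x) ^ m = 1 := by
    rw [← map_pow]
    exact (QuotientGroup.eq_one_iff _).2 h1
  exact hm (hy ▸ orderOf_dvd_of_pow_eq_one h2)

/-- a subgroup all of whose "prime parts" lie in the normal subgroup `D` lies in `D` -/
theorem le_of_pElements (N D : Subgroup H) [D.Normal]
    (h : ∀ p : ℕ, p.Prime → p ∣ Nat.card N → ∀ x : H, (∃ k : ℕ, x ^ p ^ k = 1) → x ∈ D) :
    N ≤ D := by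
  intro x hx
  by_contra hxD
  have h1 : QuotientGroup.mk' D x ≠ 1 := fun h0 => hxD ((QuotientGroup.eq_one_iff _).1 h0)
  have h2 : orderOf (QuotientGroup.mk' D x) ≠ 1 := fun h0 => h1 (orderOf_eq_one_iff.1 h0)
  obtain ⟨p, hp, hpd⟩ := Nat.exists_prime_and_dvd h2
  haveI : Fact p.Prime := ⟨hp⟩
  have h3 : orderOf (QuotientGroup.mk' D x) ∣ orderOf x := orderOf_map_dvd _ x
  have h4 : orderOf x ∣ Nat.card N := by
    have := orderOf_dvd_natCard (⟨x, hx⟩ : N)
    rwa [Subgroup.orderOf_mk] at this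
  obtain ⟨m, a, hm, hma⟩ := exists_pPart p x
  have h5 : x ^ m ∈ D := h p hp (hpd.trans (h3.trans h4)) _ ⟨a, hma⟩
  have h6 : (QuotientGroup.mk' D x) ^ m = 1 := by
    rw [← map_pow]
    exact (QuotientGroup.eq_one_iff _).2 h5
  exact hm (hpd.trans (orderOf_dvd_of_pow_eq_one h6))

/-- a complement of a normal Hall subgroup through a given element of prime order -/
theorem exists_complement_mem (N : Subgroup H) [N.Normal] (hN : (Nat.card N).Coprime N.index)
    {q : ℕ} [Fact q.Prime] (hq : ¬ q ∣ Nat.card N) (x : H) (hx : orderOf x = q) :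
    ∃ K : Subgroup H, Subgroup.IsComplement' N K ∧ x ∈ K := by
  obtain ⟨K0, hK0⟩ := Subgroup.exists_right_complement'_of_coprime hN
  have hidx : K0.index = Nat.card N := hK0.index_eq_card
  have hidx' : N.index = Nat.card K0 := hK0.symm.index_eq_card
  let S0 : Sylow q K0 := default
  have hQ0p : IsPGroup q ((S0 : Subgroup K0).map K0.subtype) := S0.2.map _
  have hQ0i : ¬ q ∣ ((S0 : Subgroup K0).map K0.subtype).index := by
    rw [← Subgroup.relIndex_mul_index (Subgroup.map_subtype_le _), relIndex_map_subtype, hidx]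
    exact (Fact.out : q.Prime).not_dvd_mul S0.not_dvd_index hq
  let S : Sylow q H := hQ0p.toSylow hQ0i
  have hxp : IsPGroup q (Subgroup.zpowers x) := by
    rw [IsPGroup.iff_card]
    exact ⟨1, by rw [Nat.card_zpowers, hx, pow_one]⟩
  obtain ⟨T, hT⟩ := hxp.exists_le_sylow
  obtain ⟨g, hg⟩ := MulAction.exists_smul_eq H S T
  refine ⟨K0.map (MulAut.conj g).toMonoidHom, ?_, ?_⟩
  · apply Subgroup.isComplement'_of_coprime
    · rw [Subgroup.card_map_of_injective (MulAut.conj g).injective]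
      exact hK0.card_mul_card
    · rw [Subgroup.card_map_of_injective (MulAut.conj g).injective, ← hidx']
      exact hN
  · have h1 : x ∈ (T : Subgroup H) := hT (Subgroup.mem_zpowers x)
    rw [← hg, Sylow.coe_subgroup_smul] at h1
    obtain ⟨y, hy, rfl⟩ := h1
    obtain ⟨z, hz, rfl⟩ := hy
    exact ⟨z, z.2, rfl⟩

end general

variable {G : Type*} [Group G]

theorem sigma_pElement_mem_commutator [Finite G] (hG : Cfsg.IsMinSimpleOddOrder G) (hU : UT G)
    {M : Subgroup G} (hM : IsCoatom M) {p : ℕ} (hp : p.Prime) (hpσ : p ∈ Cfsg.sigma M) (x : M)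
    (hx : ∃ k : ℕ, x ^ p ^ k = 1) : x ∈ commutator M := by
  obtain ⟨k, hk⟩ := hx
  haveI : Fact p.Prime := ⟨hp⟩
  have hxp : IsPGroup p (Subgroup.zpowers (x : G)) := by
    rw [IsPGroup.iff_card]
    have h3 : orderOf (x : G) ∣ p ^ k := orderOf_dvd_of_pow_eq_one (congrArg Subtype.val hk)
    obtain ⟨j, -, hj⟩ := (Nat.dvd_prime_pow hp).1 h3
    exact ⟨j, by rw [Nat.card_zpowers, hj]⟩
  obtain ⟨P, hP, hxP⟩ := exists_isSylowIn_ge (Subgroup.zpowers_le.2 x.2) hxp
  have h4 := sigma_sylow_le_commutator hG hU hM hpσ hP (hxP (Subgroup.mem_zpowers _))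
  rw [← Subgroup.map_subtype_commutator] at h4
  obtain ⟨y, hy, hyx⟩ := h4
  rwa [Subtype.ext hyx] at hy

/-- **BG Theorem 10.6** for maximal subgroups. -/
theorem pLengthLE_one_coatom [Finite G] (hG : Cfsg.IsMinSimpleOddOrder G) {M : Subgroup G}
    (hM : IsCoatom M) (p : ℕ) [Fact p.Prime] : Cfsg.PLengthLE p 1 M := by
  have hp : p.Prime := Fact.out
  have hU : UT G := fun K hK hK2 hK3 => Cfsg.Agent.S1403.result hG K hK hK2 hK3
  haveI := MS_solvable hG hM.1
  have hodd : Odd (Nat.card M) := MS_odd hG M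
  by_cases hr : Cfsg.PRankLE p 2 M
  · exact pLengthLE_one_of_rank2 hodd p hr
  by_cases hpM : p ∣ Nat.card M
  swap
  · exact PLengthLE.mono (pLengthLE_zero_of_coprime ((Nat.Prime.coprime_iff_not_dvd hp).2 hpM).symm)
      (Nat.zero_le 1)
  have hpα : p ∈ Cfsg.alpha M := ⟨hp, hr⟩
  have hασ : Cfsg.alpha M ⊆ Cfsg.sigma M := fun s hs => alpha_subset_sigma hG hU hM hs
  have hhall := (hall_core_of_coatom hG hU hM (Cfsg.alpha M) subset_rfl hασ).1
  set N : Subgroup M := Cfsg.piCore (Cfsg.alpha M) M with hNdef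
  have hNprimes : ∀ s : ℕ, s.Prime → s ∣ Nat.card N → s ∈ Cfsg.alpha M :=
    Cfsg.Agent.Lib.Helper23.piCore_primes (Cfsg.alpha M) M
  have hNcop : (Nat.card N).Coprime N.index := by
    apply Nat.Coprime.symm
    apply Nat.coprime_of_dvd
    intro s hs hs1 hs2
    exact hhall s hs (hNprimes s hs hs2) hs1
  have hNle : N ≤ commutator M := by
    apply le_of_pElements
    intro s hs hsd x hx
    exact sigma_pElement_mem_commutator hG hU hM hs (hασ (hNprimes s hs hsd)) x hx
  have hpN : p ∣ Nat.card N := by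
    have h1 := N.card_mul_index
    rw [← h1] at hpM
    rcases hp.dvd_mul.1 hpM with h | h
    · exact h
    · exact absurd h (hhall p hp hpα)
  have hNbot : N ≠ ⊥ := by
    intro h
    rw [h, Subgroup.card_bot] at hpN
    exact hp.one_lt.ne' (Nat.dvd_one.1 hpN)
  have hMα : Cfsg.alphaCore M ≠ ⊥ := by
    intro h
    apply hNbot
    exact (Subgroup.map_eq_bot_iff_of_injective _ M.subtype_injective).1 h
  -- the prime q
  haveI : Nontrivial M := by
    rw [← Subgroup.nontrivial_iff_ne_bot] at hNbot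
    obtain ⟨a, b, hab⟩ := hNbot
    exact ⟨a, b, fun h => hab (Subtype.ext h)⟩
  have hDtop : commutator M ≠ ⊤ := (Group.IsSolvable.commutator_lt_top_of_nontrivial (G := M)).ne
  have hDidx : (commutator M).index ≠ 1 := fun h => hDtop (Subgroup.index_eq_one.1 h)
  obtain ⟨q, hq, hqd⟩ := Nat.exists_prime_and_dvd hDidx
  haveI : Fact q.Prime := ⟨hq⟩
  have hqσ : q ∉ Cfsg.sigma M := by
    intro hqσ
    exact not_dvd_index_of_pElements (commutator M) q
      (fun x hx => sigma_pElement_mem_commutator hG hU hM hq hqσ x hx) hqd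
  have hqM : q ∣ Nat.card M := hqd.trans (Subgroup.index_dvd_card _)
  obtain ⟨x, hxm, hxo, hZ, -⟩ := Cfsg.Agent.S1407.result hG M hM hMα q hqM hqσ default
  obtain ⟨x', -, rfl⟩ := Subgroup.mem_map.1 hxm
  have hxo' : orderOf x' = q := by
    rw [← hxo]; exact (Subgroup.orderOf_coe x').symm
  have hqN : ¬ q ∣ Nat.card N := fun h => hqσ (hασ (hNprimes q hq h))
  obtain ⟨K, hK, hxK⟩ := exists_complement_mem N hNcop hqN x' hxo'
  have hZ' : IsZGroup ↥(N ⊓ Subgroup.centralizer ((Subgroup.zpowers x' : Subgroup M) : Set M)) := by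
    let f : ↥(N ⊓ Subgroup.centralizer ((Subgroup.zpowers x' : Subgroup M) : Set M)) →*
        ↥(Cfsg.alphaCore M ⊓ Subgroup.centralizer ({M.subtype x'} : Set G)) :=
      (M.subtype.comp (Subgroup.subtype _)).codRestrict _ (by
        intro y
        refine ⟨Subgroup.mem_map.2 ⟨y.1, y.2.1, rfl⟩, ?_⟩
        change ((y : M) : G) ∈ Subgroup.centralizer ({M.subtype x'} : Set G)
        rw [Subgroup.mem_centralizer_singleton_iff]
        have h1 := Subgroup.mem_centralizer_iff.1 y.2.2 x' (Subgroup.mem_zpowers x')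
        exact (congrArg Subtype.val h1).symm)
    have hf : Function.Injective f := by
      intro a b hab
      have h1 : ((a : M) : G) = ((b : M) : G) :=
        congrArg (fun t : ↥(Cfsg.alphaCore M ⊓ Subgroup.centralizer ({M.subtype x'} : Set G)) => (t : G)) hab
      exact Subtype.ext (Subtype.ext h1)
    exact IsZGroup.of_injective hf
  have h1 := Cfsg.Agent.S1444.result hodd N K (Subgroup.zpowers x') hNcop hK
    (Subgroup.zpowers_le.2 hxK) (by rw [Nat.card_zpowers, hxo']; exact hq) hZ' p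
  have h2 := ((Cfsg.Agent.S1459.result (G := M)).1 N K inferInstance hNcop hK hNle).1
  rw [← h2] at h1
  have h3 : Cfsg.PLengthLE p 0 (M ⧸ N) := by
    apply pLengthLE_zero_of_coprime
    rw [← Subgroup.index_eq_card]
    exact ((Nat.Prime.coprime_iff_not_dvd hp).2 (hhall p hp hpα)).symm
  exact PLengthLE.extension hp N h1 h3

/-- **BG Theorem 10.6.** -/
theorem pLengthLE_one_proper [Finite G] (hG : Cfsg.IsMinSimpleOddOrder G) {H : Subgroup G}
    (hH : H ≠ ⊤) (p : ℕ) [Fact p.Prime] : Cfsg.PLengthLE p 1 H := by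
  have hp : p.Prime := Fact.out
  obtain ⟨M, hM, hHM⟩ := exists_coatom_ge hH
  have h1 := PLengthLE.subgroup hp (pLengthLE_one_coatom hG hM p) (H.subgroupOf M)
  exact PLengthLE.of_surjective hp (Subgroup.subgroupOfEquivOfLe hHM).toMonoidHom
    (Subgroup.subgroupOfEquivOfLe hHM).surjective h1

end Cfsg.Agent.Lib.Helper24
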