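/-
Helper library (helper24): generic lemmas for Bender–Glauberman section 13.
* `frob_centralizes`  (F')  : a Frobenius group `S P` acting coprimely on a solvable `V` with
  `C_V(P) ≤ C_V(S)` has `[V, S] = 1` (from S1545).
* `frob_centralizes_pgroup` (FC) : the same for a `t`-group `T`, `t` odd, if only the elements of order
  dividing `t` of `C_T(P)` are centralized by `S`.
* `gap` (GAP) : coprime action, moving a fixed `t`-subgroup into an invariant subgroup of `t'`-index.
-/
import Cfsg.Agent.S1545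
import Cfsg.Agent.Lib.Helper24.PGroup
import Cfsg.Agent.Lib.Helper22.CoprimeP
import Cfsg.Agent.Lib.Helper34.SylowIn

set_option autoImplicit false
set_option linter.unusedSectionVars false
set_option linter.unusedVariables false

namespace Cfsg.Agent.Lib.Helper24.BG13F

open Subgroup
open scoped commutatorElement

variable {G : Type*} [Group G]

/-- **F'**. -/
theorem frob_centralizes [Finite G] {S P V : Subgroup G} (hS1 : S ≠ ⊥) (hP1 : P ≠ ⊥)
    (hPS : P ≤ normalizer (S : Set G))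
    (hfpf : ∀ e ∈ P, e ≠ 1 → ∀ u ∈ S, e * u = u * e → u = 1)
    (hSV : S ≤ normalizer (V : Set G)) (hPV : P ≤ normalizer (V : Set G))
    (hsolv : Group.IsSolvable V) (hcop : (Nat.card V).Coprime (Nat.card ↥(S ⊔ P)))
    (hC : V ⊓ centralizer (P : Set G) ≤ centralizer (S : Set G)) :
    V ≤ centralizer (S : Set G) := by
  have hSP : S ⊓ P = ⊥ := by
    rw [eq_bot_iff]
    intro x hx
    rw [mem_bot]
    by_contra hx1
    exact hx1 (hfpf x hx.2 hx1 x hx.1 rfl)
  have hdisj : V ⊓ (S ⊔ P) = ⊥ := by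
    rw [eq_bot_iff]
    intro x hx
    rw [mem_bot]
    have h1 : orderOf x ∣ Nat.card V := by
      have := orderOf_dvd_natCard (⟨x, hx.1⟩ : V)
      rwa [Subgroup.orderOf_mk] at this
    have h2 : orderOf x ∣ Nat.card ↥(S ⊔ P) := by
      have := orderOf_dvd_natCard (⟨x, hx.2⟩ : ↥(S ⊔ P))
      rwa [Subgroup.orderOf_mk] at this
    have := Nat.eq_one_of_dvd_coprimes hcop h1 h2
    exact orderOf_eq_one_iff.1 this
  have key := Cfsg.Agent.S1545.result S P V hS1 hP1 hSP
    (fun e he u hu => (mem_normalizer_iff.1 (hPS he) u).1 hu) hfpf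
    (fun x hx h hh => (mem_normalizer_iff.1 ((sup_le hSV hPV) hx) h).1 hh) hdisj hsolv hcop
  have heq : V ⊓ centralizer ((S ⊔ P : Subgroup G) : Set G) = V ⊓ centralizer (P : Set G) := by
    apply le_antisymm
    · exact inf_le_inf_left _ (centralizer_le (by exact_mod_cast (le_sup_right : P ≤ S ⊔ P)))
    · intro x hx
      have hx2 : x ∈ centralizer (P : Set G) := (mem_inf.1 hx).2
      refine mem_inf.2 ⟨(mem_inf.1 hx).1, ?_⟩
      have h1 : S ≤ centralizer ({x} : Set G) := by
        intro s hs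
        rw [mem_centralizer_singleton_iff]
        have := hC hx
        rw [mem_centralizer_iff] at this
        exact this s hs
      have h2 : P ≤ centralizer ({x} : Set G) := by
        intro s hs
        rw [mem_centralizer_singleton_iff]
        have := hx2
        rw [mem_centralizer_iff] at this
        exact this s hs
      rw [mem_centralizer_iff]
      intro y hy
      have := (sup_le h1 h2) hy
      rw [mem_centralizer_singleton_iff] at this
      exact this
  rw [heq] at key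
  have hpos : 0 < Nat.card ↥(V ⊓ centralizer (P : Set G)) ^ Nat.card P :=
    pow_pos Nat.card_pos _
  have hcard : Nat.card V = Nat.card ↥(V ⊓ centralizer (S : Set G)) :=
    Nat.eq_of_mul_eq_mul_left hpos key
  have : V ⊓ centralizer (S : Set G) = V :=
    Subgroup.eq_of_le_of_card_ge inf_le_left hcard.le
  rw [← this]
  exact inf_le_right

/-- **FC**. -/
theorem frob_centralizes_pgroup [Finite G] {S P : Subgroup G} {t : ℕ} [Fact t.Prime] (ht2 : t ≠ 2)
    (hS1 : S ≠ ⊥) (hP1 : P ≠ ⊥) (hPS : P ≤ normalizer (S : Set G))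
    (hfpf : ∀ e ∈ P, e ≠ 1 → ∀ u ∈ S, e * u = u * e → u = 1)
    (hcop : (Nat.card ↥(S ⊔ P)).Coprime t)
    (T : Subgroup G) (hT : IsPGroup t T)
    (hST : S ≤ normalizer (T : Set G)) (hPT : P ≤ normalizer (T : Set G))
    (hC : ∀ x ∈ T, x ^ t = 1 → x ∈ centralizer (P : Set G) → x ∈ centralizer (S : Set G)) :
    T ≤ centralizer (S : Set G) := by
  have hcopS : (Nat.card S).Coprime t :=
    Nat.Coprime.coprime_dvd_left (Subgroup.card_dvd_of_le le_sup_left) hcop
  induction hn : Nat.card T using Nat.strong_induction_on generalizing T with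
  | _ n ih =>
  subst hn
  have hcopT := coprime_card_of_isPGroup hcopS hT
  have hle : ⁅T, S⁆ ≤ T := Subgroup.le_normalizer_iff_commutator_le_left.1 hST
  suffices h : ⁅T, S⁆ ≤ centralizer (S : Set G) by
    have h1 : ⁅⁅T, S⁆, S⁆ = ⊥ := Subgroup.commutator_eq_bot_iff_le_centralizer.2 h
    exact Subgroup.commutator_eq_bot_iff_le_centralizer.1
      (commutator_eq_bot_of_coprime hST hcopT h1)
  have ihQ : ∀ Q : Subgroup G, Q < T → S ≤ normalizer (Q : Set G) → P ≤ normalizer (Q : Set G) →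
      Q ≤ centralizer (S : Set G) := fun Q hQ hSQ hPQ =>
    ih _ (card_lt_of_lt hQ) Q (hT.to_le hQ.le) hSQ hPQ (fun x hx => hC x (hQ.le hx)) rfl
  by_cases hTS : ⁅T, S⁆ = T
  swap
  · exact ihQ _ (lt_of_le_of_ne hle hTS) (Subgroup.normalizer_commutator_ge_right _ _)
      ((le_inf hPT hPS).trans (normalizer_inf_le_normalizer_commutator T S))
  by_cases hbot : T = ⊥
  · rw [hTS, hbot]; exact bot_le
  obtain ⟨M, -, hMT, -, -, hpow, hcomm⟩ := exists_maximal_normal t hT (bot_lt_iff_ne_bot.2 hbot)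
  have hN1 : ⁅T, T⁆ < T := lt_of_le_of_lt hcomm hMT
  have hN1n : normalizer (T : Set G) ≤ normalizer ((⁅T, T⁆ : Subgroup G) : Set G) :=
    le_trans (le_inf le_rfl le_rfl) (normalizer_inf_le_normalizer_commutator T T)
  have hN1A := ihQ _ hN1 (hST.trans hN1n) (hPT.trans hN1n)
  have hN1P := le_centralizer_of_commutator_eq hTS (Subgroup.le_normalizer.trans hN1n) hN1A
  set N2 := Subgroup.closure ((fun x => x ^ t) '' (T : Set G)) with hN2def
  have hN2 : N2 < T := by
    refine lt_of_le_of_lt ?_ hMT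
    rw [hN2def, Subgroup.closure_le]
    rintro _ ⟨x, hx, rfl⟩
    exact hpow x hx
  have hN2n := normalizer_le_normalizer_closure_pow T t
  have hN2A := ihQ _ hN2 (hST.trans hN2n) (hPT.trans hN2n)
  have hN2P := le_centralizer_of_commutator_eq hTS (Subgroup.le_normalizer.trans hN2n) hN2A
  have hpowmem : ∀ x ∈ T, x ^ t ∈ N2 := fun x hx => Subgroup.subset_closure ⟨x, hx, rfl⟩
  have hcc : ∀ u ∈ T, ∀ v ∈ T, ∀ w ∈ T, Commute ⁅u, v⁆ w := by
    intro u hu v hv w hw
    have := hN1P (Subgroup.commutator_mem_commutator hu hv)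
    rw [Subgroup.mem_centralizer_iff] at this
    exact (this w hw).symm
  have hpc : ∀ u ∈ T, ∀ w ∈ T, Commute (u ^ t) w := by
    intro u hu w hw
    have := hN2P (hpowmem u hu)
    rw [Subgroup.mem_centralizer_iff] at this
    exact (this w hw).symm
  have hmulpow : ∀ x ∈ T, ∀ y ∈ T, (x * y) ^ t = x ^ t * y ^ t := fun x hx y hy =>
    mul_pow_prime_of_commute t ht2 x y (hcc _ hy _ hx _ hx) (hcc _ hy _ hx _ hy) (hpc _ hy _ hx)
  -- the subgroup of elements of exponent `t`
  let Ω : Subgroup G :=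
    { carrier := {x | x ∈ T ∧ x ^ t = 1}
      mul_mem' := by
        rintro x y ⟨hx, hx1⟩ ⟨hy, hy1⟩
        exact ⟨T.mul_mem hx hy, by rw [hmulpow x hx y hy, hx1, hy1, one_mul]⟩
      one_mem' := ⟨T.one_mem, one_pow _⟩
      inv_mem' := by
        rintro x ⟨hx, hx1⟩
        exact ⟨T.inv_mem hx, by rw [inv_pow, hx1, inv_one]⟩ }
  have hexp : ∀ x ∈ T, x ^ t = 1 := by
    have hTΩ : ⁅T, S⁆ ≤ Ω := by
      rw [Subgroup.commutator_le]
      intro x hx a ha
      refine ⟨hle (Subgroup.commutator_mem_commutator hx ha), ?_⟩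
      have hx' : a * x⁻¹ * a⁻¹ ∈ T := (Subgroup.mem_normalizer_iff.1 (hST ha) x⁻¹).1 (T.inv_mem hx)
      have hdecomp : ⁅x, a⁆ = x * (a * x⁻¹ * a⁻¹) := by rw [commutatorElement_def]; group
      rw [hdecomp, hmulpow x hx _ hx', conj_pow, inv_pow]
      have h5 := hN2A (hpowmem x hx)
      rw [Subgroup.mem_centralizer_iff] at h5
      have h6 : a * (x ^ t)⁻¹ * a⁻¹ = (x ^ t)⁻¹ := by
        have h7 : a * x ^ t = x ^ t * a := h5 a ha
        have h8 : Commute a (x ^ t) := h7
        rw [h8.inv_right.eq]; group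
      rw [h6, mul_inv_cancel]
    intro x hx
    rw [← hTS] at hx
    exact (hTΩ hx).2
  rw [hTS]
  have hsolv : Group.IsSolvable T := by
    have := hT.isNilpotent
    infer_instance
  refine frob_centralizes hS1 hP1 hPS hfpf hST hPT hsolv ?_ ?_
  · obtain ⟨k, hk⟩ := IsPGroup.iff_card.1 hT
    rw [hk]
    exact (Nat.Coprime.pow_right k hcop).symm
  · intro x hx
    exact hC x (mem_inf.1 hx).1 (hexp x (mem_inf.1 hx).1) (mem_inf.1 hx).2

/-- Conversion between the two notions of "Sylow subgroup of a subgroup". -/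
theorem isSylowIn22_of_34 {q : ℕ} [Fact q.Prime] {Q K : Subgroup G}
    (h : Helper34.IsSylowIn q Q K) : Helper22.IsSylowIn q Q K := by
  refine ⟨h.toSylow, ?_⟩
  rw [h.coe_toSylow, Subgroup.subgroupOf_map_subtype, inf_eq_left.2 h.1]

theorem isSylowIn34_of_22 [Finite G] {q : ℕ} [Fact q.Prime] {Q K : Subgroup G}
    (h : Helper22.IsSylowIn q Q K) : Helper34.IsSylowIn q Q K := by
  obtain ⟨S, rfl⟩ := h
  exact Helper34.Sylow.isSylowIn_map S

/-- A Sylow subgroup of a subgroup of index prime to `q` is a Sylow subgroup. -/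
theorem isSylowIn_of_relIndex {q : ℕ} [hq : Fact q.Prime] {Q K0 K : Subgroup G}
    (h : Helper34.IsSylowIn q Q K0) (hK : K0 ≤ K) (hidx : ¬ q ∣ K0.relIndex K) :
    Helper34.IsSylowIn q Q K := by
  refine ⟨h.1.trans hK, h.2.1, ?_⟩
  rw [← Subgroup.relIndex_mul_relIndex Q K0 K h.1 hK]
  intro hd
  rcases (Nat.Prime.dvd_mul hq.out).1 hd with h1 | h1
  · exact h.2.2 h1
  · exact hidx h1

/-- **GAP**. -/
theorem gap [Finite G] {p t : ℕ} [Fact p.Prime] [Fact t.Prime] {P K K0 Y : Subgroup G}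
    (hP : IsPGroup p P) (hK : ¬ p ∣ Nat.card K) (hPK : P ≤ normalizer (K : Set G))
    (hK0 : K0 ≤ K) (hPK0 : P ≤ normalizer (K0 : Set G)) (hidx : ¬ t ∣ K0.relIndex K)
    (hY : IsPGroup t Y) (hYK : Y ≤ K) (hYP : Y ≤ centralizer (P : Set G)) :
    ∃ k ∈ K ⊓ centralizer (P : Set G), Y.map (MulAut.conj k).toMonoidHom ≤ K0 := by
  have hK0' : ¬ p ∣ Nat.card K0 := fun h => hK (h.trans (Subgroup.card_dvd_of_le hK0))
  obtain ⟨T, hT, hPT⟩ := Helper22.exists_invariant_isSylowIn P K0 hP hK0' hPK0 t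
  have hTK : Helper22.IsSylowIn t T K :=
    isSylowIn22_of_34 (isSylowIn_of_relIndex (isSylowIn34_of_22 hT) hK0 hidx)
  have hPY : P ≤ normalizer (Y : Set G) :=
    (Subgroup.le_centralizer_iff.1 hYP).trans (centralizer_le_normalizer' Y)
  obtain ⟨T', hT', hPT', hYT'⟩ := Helper22.exists_invariant_isSylowIn_ge P K hP hK hPK t Y hY hYK hPY
  obtain ⟨c, hc, hcT⟩ := hT'.exists_conj_centralizer hP hK hPK hTK hPT' hPT
  refine ⟨c, hc, ?_⟩
  calc Y.map (MulAut.conj c).toMonoidHom ≤ T'.map (MulAut.conj c).toMonoidHom := Subgroup.map_mono hYT'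
    _ = T := hcT
    _ ≤ K0 := hT.le

end Cfsg.Agent.Lib.Helper24.BG13F
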