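/-
Helper library (helper24): two lemmas for Bender–Glauberman section 13.
* `mem_of_pRankLE_one` : in a `p`-group of rank one the elements of order dividing `p` form the unique
  subgroup of order `p`.
* `sylow_le_commutator_centralizer` (Lemma U) : `T` a Sylow subgroup of `G`, `N_G(T) ≤ H`, `P₁ ≤ C_G(T)` of
  prime order `p₁`, `H` of `p₁`-rank one, `P₁ ≰ H'`.  Then `T ≤ C_G(P₁)'`.
-/
import Cfsg.Agent.S1411
import Cfsg.Agent.Lib.Helper34.BG13a
import Cfsg.Agent.Lib.Helper24.BG10c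

set_option autoImplicit false
set_option linter.unusedSectionVars false
set_option linter.unusedVariables false

namespace Cfsg.Agent.Lib.Helper24.BG13U

open Subgroup Cfsg
open Cfsg.Agent.Lib
open Cfsg.Agent.Lib.Helper24 Cfsg.Agent.Lib.Helper34 Cfsg.Agent.Lib.Helper31.BG11
open scoped commutatorElement

universe u

variable {G : Type u} [Group G] [Finite G]

theorem pow_eq_one_of_card_prime {X : Subgroup G} {p : ℕ} (hX : Nat.card X = p) {x : G} (hx : x ∈ X) :
    x ^ p = 1 := by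
  have := pow_card_eq_one' (G := X) (x := ⟨x, hx⟩)
  rw [hX] at this
  exact congrArg Subtype.val this

theorem mem_of_pRankLE_one {p : ℕ} [hp : Fact p.Prime] {Y X : Subgroup G} (hY : IsPGroup p Y)
    (hr : PRankLE p 1 Y) (hXY : X ≤ Y) (hX : Nat.card X = p) {x : G} (hx : x ∈ Y) (hxp : x ^ p = 1) :
    x ∈ X := by
  have hYne : Y ≠ ⊥ := by
    rintro rfl
    have : X = ⊥ := le_bot_iff.1 hXY
    rw [this, card_bot] at hX
    exact hp.out.one_lt.ne hX
  obtain ⟨z, hzY, hzc, hz1, hzp⟩ := exists_central_order_p hY hYne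
  have hZcard : Nat.card (zpowers z) = p := by
    rw [Nat.card_zpowers]
    exact orderOf_eq_prime hzp hz1
  have hZel : IsElementaryAbelian p (zpowers z) := by
    refine ⟨inferInstance, ?_⟩
    intro a ha
    exact pow_eq_one_of_card_prime hZcard ha
  have key : ∀ w ∈ Y, w ^ p = 1 → w ∈ zpowers z := by
    intro w hw hwp
    have hwc : w ∈ centralizer ((zpowers z : Subgroup G) : Set G) := by
      rw [Helper22.centralizer_zpowers, mem_centralizer_singleton_iff]
      rw [mem_centralizer_iff] at hzc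
      exact hzc w hw
    have hel := elemAb_sup_zpowers hZel hwc hwp
    have hle : zpowers z ⊔ zpowers w ≤ Y := sup_le (zpowers_le.2 hzY) (zpowers_le.2 hw)
    have hcard := (pRankLE_iff Y).1 hr _ hle hel.1 hel.2
    rw [pow_one] at hcard
    have heq : zpowers z = zpowers z ⊔ zpowers w :=
      Subgroup.eq_of_le_of_card_ge le_sup_left (by rw [hZcard]; exact hcard)
    rw [heq]
    exact le_sup_right (a := zpowers z) (mem_zpowers w)
  have hXZ : X ≤ zpowers z := fun w hw => key w (hXY hw) (pow_eq_one_of_card_prime hX hw)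
  have : X = zpowers z := Subgroup.eq_of_le_of_card_ge hXZ (by rw [hZcard, hX])
  rw [this]
  exact key x hx hxp

/-- A subgroup of prime order not contained in `K` meets `K` trivially. -/
theorem inf_eq_bot_of_card_prime {X K : Subgroup G} {p : ℕ} (hp : p.Prime) (hX : Nat.card X = p)
    (hXK : ¬ X ≤ K) : X ⊓ K = ⊥ := by
  have hd : Nat.card ↥(X ⊓ K) ∣ p := hX ▸ Subgroup.card_dvd_of_le inf_le_left
  rcases (Nat.dvd_prime hp).1 hd with h | h
  · exact Subgroup.card_eq_one.1 h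
  · exfalso
    apply hXK
    have : X ⊓ K = X := Subgroup.eq_of_le_of_card_ge inf_le_left (by rw [h, hX])
    rw [← this]
    exact inf_le_right

/-- **Lemma U**. -/
theorem sylow_le_commutator_centralizer (hG : IsMinSimpleOddOrder G) {p p₁ : ℕ} [hp : Fact p.Prime]
    [hp₁ : Fact p₁.Prime] {T H P₁ : Subgroup G} (hT : IsSylowIn p T ⊤)
    (hNH : normalizer (T : Set G) ≤ H) (hP₁T : P₁ ≤ centralizer (T : Set G))
    (hP₁ : Nat.card P₁ = p₁) (hr : PRankLE p₁ 1 H) (hP₁H : ¬ P₁ ≤ ⁅H, H⁆) :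
    T ≤ ⁅centralizer (P₁ : Set G), centralizer (P₁ : Set G)⁆ := by
  set N := normalizer (T : Set G) with hN
  set C₀ := centralizer (T : Set G) with hC₀
  have hC₀N : C₀ ≤ N := centralizer_le_normalizer' T
  have hTP₁ : T ≤ centralizer (P₁ : Set G) := le_centralizer_iff.1 hP₁T
  have hP₁pg : IsPGroup p₁ P₁ := IsPGroup.of_card (n := 1) (by rw [hP₁, pow_one])
  obtain ⟨Y₁, hY₁, hP₁Y₁⟩ := exists_isSylowIn_ge hP₁T hP₁pg
  have hinf : P₁ ⊓ ⁅H, H⁆ = ⊥ := inf_eq_bot_of_card_prime hp₁.out hP₁ hP₁H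
  -- Frattini
  have hfr : ∀ n ∈ N, ∃ c ∈ C₀, c * n ∈ centralizer (P₁ : Set G) := by
    intro n hn
    have hcjC : cj n C₀ = C₀ := by
      have h1 := centralizer_map_conj n T
      rw [map_conj_eq_self_of_mem_normalizer hn] at h1
      exact h1.symm
    have hY₁' : IsSylowIn p₁ (cj n Y₁) C₀ := by
      have := hY₁.map_conj n
      rwa [show C₀.map (MulAut.conj n).toMonoidHom = C₀ from hcjC] at this
    obtain ⟨c, hc, hcY⟩ := isSylowIn_exists_cj_eq hY₁ hY₁'
    refine ⟨c, hc, ?_⟩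
    rw [cj_cj] at hcY
    have hwH : c * n ∈ H := hNH (N.mul_mem (hC₀N hc) hn)
    have hY₁H : Y₁ ≤ H := hY₁.1.trans (hC₀N.trans hNH)
    have hnorm : ∀ x ∈ P₁, (c * n) * x * (c * n)⁻¹ ∈ P₁ := by
      intro x hx
      apply mem_of_pRankLE_one hY₁.2.1 (pRankLE_mono hY₁H hr) hP₁Y₁ hP₁
      · rw [← hcY]
        exact conj_mem_map_conj (hP₁Y₁ hx)
      · rw [conj_pow, pow_eq_one_of_card_prime hP₁ hx]
        group
    rw [mem_centralizer_iff]
    intro x hx
    have h1 : ⁅c * n, x⁆ ∈ P₁ ⊓ ⁅H, H⁆ := by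
      refine mem_inf.2 ⟨?_, commutator_mem_commutator hwH (hY₁H (hP₁Y₁ hx))⟩
      rw [commutatorElement_def]
      exact P₁.mul_mem (hnorm x hx) (P₁.inv_mem hx)
    rw [hinf, mem_bot, commutatorElement_eq_one_iff_mul_comm] at h1
    exact h1.symm
  -- complement
  have hTN : T ≤ N := le_normalizer
  have hcop : (Nat.card T).Coprime (T.relIndex N) := by
    obtain ⟨k, hk⟩ := IsPGroup.iff_card.1 hT.2.1
    rw [hk]
    apply Nat.Coprime.pow_left
    rw [Nat.Prime.coprime_iff_not_dvd hp.out]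
    intro hd
    apply hT.2.2
    rw [← relIndex_mul_relIndex T N ⊤ hTN le_top]
    exact Dvd.dvd.mul_right hd _
  obtain ⟨V, hVN, hVc, hVs⟩ := Helper1.sz_exists_rel T N hTN le_rfl hcop
  have hcompl : IsComplIn T V N := by
    apply BG13.isComplIn_of_card hTN hVN
    · rw [hVc]; exact hcop
    · rw [hVc]
      rw [← Subgroup.relIndex_bot_left, ← Subgroup.relIndex_bot_left]
      exact Subgroup.relIndex_mul_relIndex ⊥ T N bot_le hTN
  have hidx : ¬ p ∣ T.index := by
    have := hT.2.2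
    rwa [relIndex_top_right] at this
  let TS : Sylow p G := hT.2.1.toSylow hidx
  have hTS : (TS : Subgroup G) = T := rfl
  have h11 : T = ⁅T, V⁆ := (Cfsg.Agent.S1411.result hG p TS V hcompl).1
  rw [h11, commutator_le]
  intro t ht v hv
  obtain ⟨c, hc, hw⟩ := hfr v (hVN hv)
  have hvt : v * t⁻¹ * v⁻¹ ∈ T := (mem_normalizer_iff.1 (hVN hv) t⁻¹).1 (T.inv_mem ht)
  have hcc : c * (v * t⁻¹ * v⁻¹) * c⁻¹ = v * t⁻¹ * v⁻¹ := by
    rw [hC₀, mem_centralizer_iff] at hc
    rw [← hc _ hvt]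
    group
  have heq : ⁅t, v⁆ = ⁅t, c * v⁆ := by
    rw [commutatorElement_def, commutatorElement_def]
    calc t * v * t⁻¹ * v⁻¹ = t * (v * t⁻¹ * v⁻¹) := by group
      _ = t * (c * (v * t⁻¹ * v⁻¹) * c⁻¹) := by rw [hcc]
      _ = t * (c * v) * t⁻¹ * (c * v)⁻¹ := by group
  rw [heq]
  exact commutator_mem_commutator (hTP₁ ht) hw

end Cfsg.Agent.Lib.Helper24.BG13U
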