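/-
Helper library (helper24): Bender–Glauberman Theorem 13.9, the "bad case" BC
(`S = S₁ × S₂`, `P₁` regular on `S₁` and trivial on `S₂`, `P₂` trivial on `S₁` and nontrivial on `S₂`).
-/
import Cfsg.Agent.S1403
import Cfsg.Agent.S1409
import Cfsg.Agent.S1414
import Cfsg.Agent.S1417
import Cfsg.Agent.S1418
import Cfsg.Agent.Lib.Helper24.BG13F
import Cfsg.Agent.Lib.Helper24.BG13U
import Cfsg.Agent.Lib.Helper24.U95a
import Cfsg.Agent.Lib.Helper34.BG16b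
import Cfsg.Agent.Lib.Helper72.BG139CD

set_option autoImplicit false
set_option linter.unusedSectionVars false
set_option linter.unusedVariables false
set_option linter.style.haveILetI false

namespace Cfsg.Agent.Lib.Helper24.BG13BC

open Subgroup Cfsg
open Cfsg.Agent.Lib
open Cfsg.Agent.Lib.Helper24 Cfsg.Agent.Lib.Helper34 Cfsg.Agent.Lib.Helper31.BG11
open Cfsg.Agent.Lib.Helper24.BG13F Cfsg.Agent.Lib.Helper24.BG13U
open scoped commutatorElement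

universe u

variable {G : Type u} [Group G] [Finite G]

theorem ut (hG : IsMinSimpleOddOrder G) : UT G :=
  fun K hK hK2 hK3 => Cfsg.Agent.S1403.result hG K hK hK2 hK3

theorem h14 (hG : IsMinSimpleOddOrder G) : BG13.H1414 G :=
  fun L hL q hq hd hb => ⟨((Cfsg.Agent.S1414.result hG L hL).2.2.2.2 q hq hd hb).1,
    ((Cfsg.Agent.S1414.result hG L hL).2.2.2.2 q hq hd hb).2.1⟩

theorem isPGroup_of_card_prime {X : Subgroup G} {p : ℕ} [Fact p.Prime] (hX : Nat.card X = p) :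
    IsPGroup p X := IsPGroup.of_card (n := 1) (by rw [hX, pow_one])

theorem ne_bot_of_card_prime {X : Subgroup G} {p : ℕ} (hp : p.Prime) (hX : Nat.card X = p) :
    X ≠ ⊥ := by
  rintro rfl
  rw [card_bot] at hX
  exact hp.one_lt.ne hX

/-- `N_G(X) ≤ H`, `|X| = p` implies `p ∉ τ₁(H)`. -/
theorem not_tau1_of_normalizer_le (hG : IsMinSimpleOddOrder G) {H X : Subgroup G} (hH : IsCoatom H)
    {p : ℕ} (hX : Nat.card X = p) (hN : normalizer (X : Set G) ≤ H) : p ∉ tau1 H := by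
  intro hτ
  haveI : Fact p.Prime := ⟨hτ.1⟩
  exact (Cfsg.Agent.S1409.result hG H hH p hτ.2.1 X hX hN).1.2 hτ.2.2.2.2

theorem not_tau1_cj (hG : IsMinSimpleOddOrder G) {H X : Subgroup G} (hH : IsCoatom H)
    {p : ℕ} (hX : Nat.card X = p) (hN : normalizer (X : Set G) ≤ H) (g : G) : p ∉ tau1 (cj g H) := by
  apply not_tau1_of_normalizer_le hG (isCoatom_cj hH g) (X := cj g X)
  · rw [card_map_conj, hX]
  · rw [normalizer_map_conj]
    exact cj_mono g hN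

/-- Primes dividing the order of `Y ⊔ X` when `Y` normalizes `X`. -/
theorem prime_dvd_card_sup {X Y : Subgroup G} (h : Y ≤ normalizer (X : Set G)) {r : ℕ} (hr : r.Prime)
    (hd : r ∣ Nat.card ↥(Y ⊔ X)) : r ∣ Nat.card Y ∨ r ∣ Nat.card X :=
  (Nat.Prime.dvd_mul hr).1 (hd.trans (Helper1.card_sup_dvd h))

theorem eq_of_prime_dvd_card {X : Subgroup G} {q r : ℕ} [hq : Fact q.Prime] (hX : IsPGroup q X)
    (hr : r.Prime) (hd : r ∣ Nat.card X) : r = q := by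
  obtain ⟨k, hk⟩ := IsPGroup.iff_card.1 hX
  rw [hk] at hd
  exact (Nat.prime_dvd_prime_iff_eq hr hq.out).1 (hr.dvd_of_dvd_pow hd)

/-- The consequence of STAR and T2: a subgroup `Y` of prime order `r` of `H` acting nontrivially on a
`q`-subgroup `X` of `H`, `q ∈ σ(M)`, `H` not conjugate to `M`. -/
theorem star_cor (hG : IsMinSimpleOddOrder G) {H M : Subgroup G} (hH : IsCoatom H) (hM : IsCoatom M)
    (hnc : ∀ g, M ≠ cj g H) {q r : ℕ} [hr : Fact r.Prime] (hq : q ∈ sigma M) (hrq : r ≠ q)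
    {X Y : Subgroup G} (hXH : X ≤ H) (hX : IsPGroup q X) (hYH : Y ≤ H) (hY : Nat.card Y = r)
    (hYX : Y ≤ normalizer (X : Set G)) (hact : ⁅X, Y⁆ ≠ ⊥) :
    r ∉ sigma H ∧ ¬ Y ≤ ⁅H, H⁆ ∧ PRankLE r 1 H := by
  haveI : Fact q.Prime := ⟨hq.1⟩
  have hU := ut hG
  have hYq : ¬ q ∣ Nat.card Y := by
    rw [hY]
    intro h
    exact hrq ((Nat.prime_dvd_prime_iff_eq hq.1 hr.out).1 h).symm
  have hYpg : IsPGroup r Y := isPGroup_of_card_prime hY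
  have hσ : r ∉ sigma H := fun h =>
    hact (BG13.star hG hU (h14 hG) hH hM hnc hq hXH hX hYq hYX (Or.inl (le_sc hG hU hH h hYH hYpg)))
  refine ⟨hσ, fun h => hact (BG13.star hG hU (h14 hG) hH hM hnc hq hXH hX hYq hYX (Or.inr h)), ?_⟩
  by_contra h1
  have h2 : PRankLE r 2 H := by
    by_contra h2
    exact hσ (alpha_subset_sigma hG hU hH ⟨hr.out, h2⟩)
  have hτ : r ∈ tau2 H := ⟨hr.out, hσ, h2, h1⟩
  -- `q ∉ σ(H)`
  have hqH : q ∉ sigma H := by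
    intro hqH
    obtain ⟨E0, hE0, -⟩ := BG13.exists_compl_ge hG hU hH (bot_le : (⊥ : Subgroup G) ≤ H) (by
      intro s hs hd
      rw [card_bot] at hd
      exact absurd (Nat.dvd_one.1 hd) hs.one_lt.ne')
    obtain ⟨A, hA⟩ := BG16.exists_T2 hE0 hτ
    have hnil := (Cfsg.Agent.S1417.result hG H hH r hτ A ⟨hA.le.trans hE0.1, hA.elem, hA.card⟩).1
    obtain ⟨g, hg⟩ := BG13.conj_of_sigma_sigma_nilpotent hG hU hH hM hnil hqH hq
    exact hnc g hg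
  obtain ⟨E, hE, hKE⟩ := BG13.exists_compl_ge hG hU hH (sup_le hYH hXH : Y ⊔ X ≤ H) (by
    intro s hs hd
    rcases prime_dvd_card_sup hYX hs hd with h | h
    · rw [eq_of_prime_dvd_card hYpg hs h]; exact hσ
    · rw [eq_of_prime_dvd_card hX hs h]; exact hqH)
  obtain ⟨B, hB⟩ := BG16.exists_T2 hE hτ
  obtain ⟨⟨hEB, hall⟩, -, -⟩ :=
    Cfsg.Agent.S1418.result hG H hH E hE r hτ B ⟨hB.le, hB.elem, hB.card⟩
  have hYB : Y ≤ B := hall Y (le_sup_left.trans hKE) hY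
  apply hact
  rw [eq_bot_iff]
  have hc1 : ⁅X, Y⁆ ≤ X := le_normalizer_iff_commutator_le_left.1 hYX
  have hc2 : ⁅X, Y⁆ ≤ B :=
    (commutator_mono le_rfl hYB).trans
      (le_normalizer_iff_commutator_le_right.1 ((le_sup_right.trans hKE).trans hEB))
  have hdisj : X ⊓ B = ⊥ := by
    apply (Subgroup.disjoint_of_coprime_natCard _).eq_bot
    obtain ⟨k, hk⟩ := IsPGroup.iff_card.1 hX
    rw [hk, hB.card]
    exact Nat.Coprime.pow _ _ ((Nat.coprime_primes hq.1 hr.out).2 hrq.symm)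
  rw [← hdisj]
  exact le_inf hc1 hc2

/-- Invariant Sylow subgroups for a coprime (not necessarily `p`-group) operator group. -/
theorem exists_invariant_sylow_ge {A K U : Subgroup G} {t : ℕ} [ht : Fact t.Prime]
    (hAK : A ≤ normalizer (K : Set G)) (hcop : (Nat.card A).Coprime (Nat.card K))
    (hK : Group.IsSolvable K) (hU : IsPGroup t U) (hUK : U ≤ K) (hAU : A ≤ normalizer (U : Set G)) :
    ∃ T, IsSylowIn t T K ∧ A ≤ normalizer (T : Set G) ∧ U ≤ T := by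
  obtain ⟨T, hUT, hTmax⟩ := (Set.toFinite {Q : Subgroup G | IsPGroup t Q ∧ Q ≤ K ∧
    A ≤ normalizer (Q : Set G)}).exists_le_maximal (a := U) ⟨hU, hUK, hAU⟩
  obtain ⟨hT, hTK, hAT⟩ := hTmax.prop
  refine ⟨T, ?_, hAT, hUT⟩
  set N₀ := K ⊓ normalizer (T : Set G) with hN₀
  have hAN₀ : A ≤ normalizer (N₀ : Set G) := Helper22.le_normalizer_inf_normalizer hAK hAT
  have hcop₀ : (Nat.card A).Coprime (Nat.card N₀) :=
    Nat.Coprime.coprime_dvd_right (Subgroup.card_dvd_of_le inf_le_left) hcop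
  have hsolv₀ : Group.IsSolvable N₀ :=
    Group.isSolvable_of_isSolvable_injective (Subgroup.inclusion_injective (inf_le_left : N₀ ≤ K))
  obtain ⟨H₀, hH₀, hAH₀⟩ := exists_invariant_piHall {t} A N₀ hAN₀ hcop₀ hsolv₀
  have hH₀pg : IsPGroup t H₀ := by
    apply IsPGroup.of_card (n := (Nat.card H₀).primeFactorsList.length)
    apply Nat.eq_prime_pow_of_unique_prime_dvd Nat.card_pos.ne'
    intro r hr hd
    exact hH₀.2.1 r hr hd
  have hH₀syl : IsSylowIn t H₀ N₀ := ⟨hH₀.1, hH₀pg, hH₀.2.2 t ht.out rfl⟩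
  have hTN₀ : T ≤ N₀ := le_inf hTK le_normalizer
  obtain ⟨n, hn, hle⟩ := hH₀syl.exists_conj_le hTN₀ hT
  rw [map_conj_eq_self_of_mem_normalizer (mem_inf.1 hn).2] at hle
  have hH₀T : H₀ ≤ T := hTmax.le_of_ge ⟨hH₀pg, hH₀.1.trans inf_le_left, hAH₀⟩ hle
  have hTeq : T = H₀ := le_antisymm hle hH₀T
  obtain ⟨T₁, hT₁, hTT₁⟩ := exists_isSylowIn_ge hTK hT
  by_cases h : T = T₁
  · rw [h]; exact hT₁
  · exfalso
    obtain ⟨x, hxT₁, hxN, hxT⟩ :=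
      exists_mem_normalizer_not_mem hT₁.2.1.isNilpotent (lt_of_le_of_ne hTT₁ h)
    have h1 := hH₀syl.eq_of_le (R := T₁ ⊓ N₀) inf_le_right hT₁.2.1.to_inf_left
      (by rw [← hTeq]; exact le_inf hTT₁ hTN₀)
    apply hxT
    rw [hTeq, h1]
    exact mem_inf.2 ⟨hxT₁, mem_inf.2 ⟨hT₁.1 hxT₁, hxN⟩⟩

theorem fpf_of_inf {S₁ P₁ : Subgroup G} {p₁ : ℕ} (hp₁ : p₁.Prime) (hP₁c : Nat.card P₁ = p₁)
    (hfpf : S₁ ⊓ centralizer (P₁ : Set G) = ⊥) :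
    ∀ e ∈ P₁, e ≠ 1 → ∀ u ∈ S₁, e * u = u * e → u = 1 := by
  intro e he he1 u hu hc
  have : u ∈ S₁ ⊓ centralizer (P₁ : Set G) :=
    mem_inf.2 ⟨hu, Helper72.BG139.mem_centralizer_of_prime_card hp₁ hP₁c he he1 hc⟩
  rw [hfpf] at this
  exact mem_bot.1 this

/-- Lemma R1: a `p₂`-subgroup `T ≥ P₂` normalized by `S₁` and `P₁` has rank one and is centralized
by `P₁`. -/
theorem R1 (hG : IsMinSimpleOddOrder G) {q p₁ p₂ : ℕ} [hq : Fact q.Prime] [hp₁ : Fact p₁.Prime]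
    [hp₂ : Fact p₂.Prime] (h21 : p₂ ≠ p₁) (h2q : p₂ ≠ q)
    {S₁ P₁ P₂ H₁ L₁ T : Subgroup G} (hS₁ : IsPGroup q S₁) (hS₁1 : S₁ ≠ ⊥)
    (hP₁c : Nat.card P₁ = p₁) (hP₂c : Nat.card P₂ = p₂)
    (hP₁S₁ : P₁ ≤ normalizer (S₁ : Set G)) (hfpf : S₁ ⊓ centralizer (P₁ : Set G) = ⊥)
    (hP₂S₁ : P₂ ≤ centralizer (S₁ : Set G)) (hPP : P₂ ≤ centralizer (P₁ : Set G))
    (hH₁ : centralizer (P₁ : Set G) ≤ H₁) (hrH₁ : PRankLE p₂ 1 H₁)
    (hL₁ : centralizer (S₁ : Set G) ≤ L₁) (hrL₁ : PRankLE p₂ 1 L₁)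
    (hT : IsPGroup p₂ T) (hP₂T : P₂ ≤ T) (hS₁T : S₁ ≤ normalizer (T : Set G))
    (hP₁T : P₁ ≤ normalizer (T : Set G)) :
    PRankLE p₂ 1 T ∧ T ≤ centralizer (P₁ : Set G) := by
  have hp2 : p₂ ≠ 2 := MS_prime_ne_two hG (H := P₂) (by rw [hP₂c])
  have hP₁pg : IsPGroup p₁ P₁ := isPGroup_of_card_prime hP₁c
  have hcop : (Nat.card ↥(S₁ ⊔ P₁)).Coprime p₂ := by
    rw [Nat.coprime_comm, Nat.Prime.coprime_iff_not_dvd hp₂.out]
    intro hd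
    rw [sup_comm] at hd
    rcases prime_dvd_card_sup hP₁S₁ hp₂.out hd with h | h
    · exact h21 (eq_of_prime_dvd_card hP₁pg hp₂.out h)
    · exact h2q (eq_of_prime_dvd_card hS₁ hp₂.out h)
  have hTS : T ≤ centralizer (S₁ : Set G) := by
    apply frob_centralizes_pgroup hp2 hS₁1 (ne_bot_of_card_prime hp₁.out hP₁c) hP₁S₁
      (fpf_of_inf hp₁.out hP₁c hfpf) hcop T hT hS₁T hP₁T
    intro x hx hxp hxc
    apply hP₂S₁
    exact mem_of_pRankLE_one (Y := T ⊓ centralizer (P₁ : Set G)) hT.to_inf_left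
      (pRankLE_mono (inf_le_right.trans hH₁) hrH₁) (le_inf hP₂T hPP) hP₂c (mem_inf.2 ⟨hx, hxc⟩) hxp
  have hr : PRankLE p₂ 1 T := pRankLE_mono (hTS.trans hL₁) hrL₁
  refine ⟨hr, ?_⟩
  apply le_centralizer_of_centralizes_omega p₂ hp2 P₁ _ T hT hP₁T
  · intro x hx hxp
    exact hPP (mem_of_pRankLE_one hT hr hP₂T hP₂c hx hxp)
  · rw [hP₁c]; exact (Nat.coprime_primes hp₁.out hp₂.out).2 h21.symm

/-- **Case BC of BG 13.9 is impossible.** -/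
theorem BC_false (hG : IsMinSimpleOddOrder G) {q p₁ p₂ : ℕ} {M S S₁ S₂ P₁ P₂ : Subgroup G}
    (hq : q.Prime) (hS : Helper34.IsSylowIn q S ⊤) (hM : IsCoatom M)
    (hNM : normalizer (S : Set G) ≤ M)
    (tau : ∀ L : Subgroup G, IsCoatom L → normalizer (S : Set G) ≤ L → p₁ ∈ tau1 L ∧ p₂ ∈ tau1 L)
    (hne : p₁ ≠ p₂) (hS₁ : S₁ ≤ S) (hS₂ : S₂ ≤ S) (hS₁1 : S₁ ≠ ⊥)
    (hNS₁ : normalizer (S : Set G) ≤ normalizer (S₁ : Set G))
    (hP₁N : P₁ ≤ normalizer (S : Set G)) (hP₂N : P₂ ≤ normalizer (S : Set G))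
    (hP₁c : Nat.card P₁ = p₁) (hP₂c : Nat.card P₂ = p₂) (hPP : P₁ ≤ centralizer (P₂ : Set G))
    (hfpf : S₁ ⊓ centralizer (P₁ : Set G) = ⊥) (hP₂S₁ : P₂ ≤ centralizer (S₁ : Set G))
    (hP₁S₂ : P₁ ≤ centralizer (S₂ : Set G)) (hP₂S₂ : P₂ ≤ normalizer (S₂ : Set G))
    (hact : ¬ P₂ ≤ centralizer (S₂ : Set G)) : False := by
  have hU := ut hG
  haveI : Fact q.Prime := ⟨hq⟩
  obtain ⟨hτ₁M, hτ₂M⟩ := tau M hM hNM
  haveI hp₁ : Fact p₁.Prime := ⟨hτ₁M.1⟩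
  haveI hp₂ : Fact p₂.Prime := ⟨hτ₂M.1⟩
  have hSpg : IsPGroup q S := hS.2.1
  have hS₁pg : IsPGroup q S₁ := hSpg.to_le hS₁
  have hS₂pg : IsPGroup q S₂ := hSpg.to_le hS₂
  have hS1 : S ≠ ⊥ := fun h => hS₁1 (eq_bot_iff.2 (h ▸ hS₁))
  have hqS : q ∣ Nat.card S := by
    obtain ⟨k, hk⟩ := IsPGroup.iff_card.1 hSpg
    rcases k with _ | k
    · exfalso
      apply hS1
      rw [pow_zero] at hk
      exact Subgroup.card_eq_one.1 hk
    · rw [hk]; exact dvd_pow_self q (Nat.succ_ne_zero k)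
  have hqσ : ∀ L : Subgroup G, normalizer (S : Set G) ≤ L → q ∈ sigma L := fun L hL =>
    mem_sigma_iff.2 ⟨hqS.trans (Subgroup.card_dvd_of_le (le_normalizer.trans hL)), S,
      hS.of_le (le_normalizer.trans hL) le_top, hL⟩
  have hqM := hqσ M hNM
  have h1q : p₁ ≠ q := fun h => hτ₁M.2.1 (h ▸ hqM)
  have h2q : p₂ ≠ q := fun h => hτ₂M.2.1 (h ▸ hqM)
  have hP₁1 := ne_bot_of_card_prime hτ₁M.1 hP₁c
  have hP₂1 := ne_bot_of_card_prime hτ₂M.1 hP₂c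
  have hP₁pg : IsPGroup p₁ P₁ := isPGroup_of_card_prime hP₁c
  have hP₂pg : IsPGroup p₂ P₂ := isPGroup_of_card_prime hP₂c
  obtain ⟨H₁, hH₁, hNH₁⟩ :=
    exists_coatom_ge (MS_normalizer_ne_top hG hP₁1 (MS_isPGroup_ne_top hG hP₁pg))
  obtain ⟨H₂, hH₂, hNH₂⟩ :=
    exists_coatom_ge (MS_normalizer_ne_top hG hP₂1 (MS_isPGroup_ne_top hG hP₂pg))
  obtain ⟨L₁, hL₁, hNL₁⟩ :=
    exists_coatom_ge (MS_normalizer_ne_top hG hS₁1 (MS_isPGroup_ne_top hG hS₁pg))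
  have hnc₁ : ∀ g, M ≠ cj g H₁ := fun g h => not_tau1_cj hG hH₁ hP₁c hNH₁ g (h ▸ hτ₁M)
  have hnc₂ : ∀ g, M ≠ cj g H₂ := fun g h => not_tau1_cj hG hH₂ hP₂c hNH₂ g (h ▸ hτ₂M)
  have hqH₂ : q ∉ sigma H₂ := by
    intro h
    obtain ⟨-, S', hS', hN'⟩ := mem_sigma_iff.1 h
    have hS'top := sigma_isSylowIn_top h hS'
    obtain ⟨n, -, hn⟩ := isSylowIn_exists_cj_eq hS hS'top
    have h1 : normalizer (S : Set G) ≤ cj n H₂ := by
      rw [← hn, normalizer_map_conj]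
      exact cj_mono n hN'
    exact not_tau1_cj hG hH₂ hP₂c hNH₂ n (tau _ (isCoatom_cj hH₂ n) h1).2
  have hCH₁ : centralizer (P₁ : Set G) ≤ H₁ := (centralizer_le_normalizer _).trans hNH₁
  have hCH₂ : centralizer (P₂ : Set G) ≤ H₂ := (centralizer_le_normalizer _).trans hNH₂
  have hPP' : P₂ ≤ centralizer (P₁ : Set G) := le_centralizer_iff.1 hPP
  have hS₂H₁ : S₂ ≤ H₁ := (le_centralizer_iff.1 hP₁S₂).trans hCH₁
  have hS₁H₂ : S₁ ≤ H₂ := (le_centralizer_iff.1 hP₂S₁).trans hCH₂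
  have hP₂H₁ : P₂ ≤ H₁ := hPP'.trans hCH₁
  have hP₁H₂ : P₁ ≤ H₂ := hPP.trans hCH₂
  have hP₂H₂ : P₂ ≤ H₂ := le_normalizer.trans hNH₂
  have hP₁S₁ : P₁ ≤ normalizer (S₁ : Set G) := hP₁N.trans hNS₁
  obtain ⟨-, hP₂H₁', hrH₁⟩ := star_cor hG hH₁ hM hnc₁ hqM h2q hS₂H₁ hS₂pg hP₂H₁ hP₂c hP₂S₂
    (fun h => hact (le_centralizer_iff.1 (commutator_eq_bot_iff_le_centralizer.1 h)))
  obtain ⟨hp₁H₂, hP₁H₂', hrH₂⟩ := star_cor hG hH₂ hM hnc₂ hqM h1q hS₁H₂ hS₁pg hP₁H₂ hP₁c hP₁S₁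
    (fun h => hS₁1 (by
      rw [← hfpf]
      exact (inf_eq_left.2 (commutator_eq_bot_iff_le_centralizer.1 h)).symm))
  have hrL₁ : PRankLE p₂ 1 L₁ := (tau L₁ hL₁ (hNS₁.trans hNL₁)).2.2.2.2.2
  have hCL₁ : centralizer (S₁ : Set G) ≤ L₁ := (centralizer_le_normalizer _).trans hNL₁
  have hR1 : ∀ T : Subgroup G, IsPGroup p₂ T → P₂ ≤ T → S₁ ≤ normalizer (T : Set G) →
      P₁ ≤ normalizer (T : Set G) → PRankLE p₂ 1 T ∧ T ≤ centralizer (P₁ : Set G) :=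
    fun T hT h1 h2 h3 => R1 hG hne.symm h2q hS₁pg hS₁1 hP₁c hP₂c hP₁S₁ hfpf hP₂S₁ hPP' hCH₁ hrH₁
      hCL₁ hrL₁ hT h1 h2 h3
  have hAH₂ : P₁ ⊔ S₁ ≤ H₂ := sup_le hP₁H₂ hS₁H₂
  have hAP₂ : P₁ ⊔ S₁ ≤ centralizer (P₂ : Set G) := sup_le hPP (le_centralizer_iff.1 hP₂S₁)
  by_cases hσ : p₂ ∈ sigma H₂
  · have hP₂sc : P₂ ≤ sigmaCore H₂ := le_sc hG hU hH₂ hσ hP₂H₂ hP₂pg
    have hAK : P₁ ⊔ S₁ ≤ normalizer (sigmaCore H₂ : Set G) := hAH₂.trans (sc_norm H₂)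
    have hcop : (Nat.card ↥(P₁ ⊔ S₁)).Coprime (Nat.card (sigmaCore H₂)) := by
      apply Nat.coprime_of_dvd
      intro s hs hd hd'
      have hsσ := sc_primes H₂ hs hd'
      rcases prime_dvd_card_sup hP₁S₁ hs hd with h | h
      · rw [eq_of_prime_dvd_card hP₁pg hs h] at hsσ; exact hp₁H₂ hsσ
      · rw [eq_of_prime_dvd_card hS₁pg hs h] at hsσ; exact hqH₂ hsσ
    have hsolv : Group.IsSolvable (sigmaCore H₂) :=
      MS_solvable hG (ne_top_of_le_ne_top hH₂.1 (sc_le H₂))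
    obtain ⟨T, hT, hAT, hP₂T⟩ := exists_invariant_sylow_ge hAK hcop hsolv hP₂pg hP₂sc
      (hAP₂.trans (centralizer_le_normalizer _))
    have hTH₂ := sc_sylow hG hU hH₂ hσ hT
    have hTtop := sigma_isSylowIn_top hσ hTH₂
    have hNT := sigma_normalizer_le hσ hTH₂
    have hR := hR1 T hT.2.1 hP₂T (le_sup_right.trans hAT) (le_sup_left.trans hAT)
    have hP₁T : P₁ ≤ centralizer (T : Set G) := le_centralizer_iff.1 hR.2
    have hTc := sylow_le_commutator_centralizer hG hTtop hNT hP₁T hP₁c hrH₂ hP₁H₂'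
    exact hP₂H₁' ((hP₂T.trans hTc).trans (commutator_mono hCH₁ hCH₁))
  · obtain ⟨⟨hr2, hr1⟩, -, -⟩ := Cfsg.Agent.S1409.result hG H₂ hH₂ p₂ hσ P₂ hP₂c hNH₂
    have hτ : p₂ ∈ tau2 H₂ := ⟨hp₂.out, hσ, hr2, hr1⟩
    have hP₂A : P₂ ≤ normalizer ((P₁ ⊔ S₁ : Subgroup G) : Set G) :=
      (le_centralizer_iff.1 hAP₂).trans (centralizer_le_normalizer _)
    obtain ⟨E, hE, hKE⟩ := BG13.exists_compl_ge hG hU hH₂ (K := P₂ ⊔ (P₁ ⊔ S₁))
      (sup_le hP₂H₂ hAH₂) (by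
        intro s hs hd
        rcases prime_dvd_card_sup hP₂A hs hd with h | h
        · rw [eq_of_prime_dvd_card hP₂pg hs h]; exact hσ
        · rcases prime_dvd_card_sup hP₁S₁ hs h with h | h
          · rw [eq_of_prime_dvd_card hP₁pg hs h]; exact hp₁H₂
          · rw [eq_of_prime_dvd_card hS₁pg hs h]; exact hqH₂)
    obtain ⟨B, hB⟩ := BG16.exists_T2 hE hτ
    obtain ⟨⟨hEB, hall⟩, -, -⟩ :=
      Cfsg.Agent.S1418.result hG H₂ hH₂ E hE p₂ hτ B ⟨hB.le, hB.elem, hB.card⟩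
    have hP₂B : P₂ ≤ B := hall P₂ (le_sup_left.trans hKE) hP₂c
    have hBpg : IsPGroup p₂ B := IsPGroup.of_card hB.card
    have hAE : P₁ ⊔ S₁ ≤ E := le_sup_right.trans hKE
    have hR := (hR1 B hBpg hP₂B ((le_sup_right.trans hAE).trans hEB)
      ((le_sup_left.trans hAE).trans hEB)).1
    exact not_pRankLE_of_le le_rfl hB.elem.1 hB.elem.2
      (by rw [hB.card]; exact Nat.pow_lt_pow_right hp₂.out.one_lt (by norm_num)) hR

end Cfsg.Agent.Lib.Helper24.BG13BC
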