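/-
Helper library (helper24): solvable groups of odd order whose Fitting subgroup has rank at most 2.
-/
import Cfsg.Agent.Lib.Helper24.Rank2Solv
import Cfsg.Agent.Lib.Helper24.Hall
import Cfsg.Agent.Lib.Helper71.Fitting
import Cfsg.Agent.Lib.Helper1.Fitting

set_option autoImplicit false
set_option linter.unusedSimpArgs false
set_option linter.unusedVariables false
set_option linter.style.haveILetI false

namespace Cfsg.Agent.Lib.Helper24

open scoped commutatorElement

variable {G : Type*} [Group G]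

/-- `r`-elements of the Fitting subgroup lie in `O_r(G)`. -/
theorem mem_pCore_of_mem_fitting [Finite G] (r : ℕ) [Fact r.Prime] (x : G)
    (hx : x ∈ Cfsg.fittingSubgroup G) (k : ℕ) (hxr : x ^ r ^ k = 1) : x ∈ Cfsg.pCore r G := by
  have hr : r.Prime := Fact.out
  let P : Sylow r G := default
  have h1 := Cfsg.Agent.Lib.Helper71.pow_sylow_index_mem_normalCore_of_mem_fitting P hx
  have h2 : (P : Subgroup G).normalCore ≤ Cfsg.pCore r G :=
    Cfsg.Agent.Lib.Lead.le_pCore inferInstance (P.2.to_le (Subgroup.normalCore_le _))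
  apply mem_of_pow_mem_of_coprime _ x _ (h2 h1)
  have h3 : orderOf x ∣ r ^ k := orderOf_dvd_of_pow_eq_one hxr
  have h4 : ((P : Subgroup G).index).Coprime r :=
    ((Nat.Prime.coprime_iff_not_dvd hr).2 P.not_dvd_index).symm
  exact Nat.Coprime.of_dvd_right h3 (Nat.Coprime.pow_right k h4)

/-- General form of `rank2_prime`. -/
theorem rank2_prime' [Finite G] (p : ℕ) [Fact p.Prime] (hp2 : p ≠ 2) (R : Subgroup G)
    (hR : IsPGroup p R)
    (hrank : ∀ F : Subgroup G, F ≤ R → IsMulCommutative F → (∀ a ∈ F, a ^ p = 1) → Nat.card F ≤ p ^ 2)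
    (x : G) (hx : x ∈ Subgroup.normalizer (R : Set G)) (q : ℕ) (hq : q.Prime)
    (hcop : (orderOf x).Coprime p)
    (hxq : x ^ q ∈ Subgroup.centralizer (R : Set G)) (hxR : x ∉ Subgroup.centralizer (R : Set G)) :
    q ∣ (p ^ 2 - 1) * (p ^ 2 - p) := by
  have hp : p.Prime := Fact.out
  obtain ⟨W, Z, hZW, hWR, hNW, hNZ, hcomm, hexp, hcase, hfaith⟩ := rank2_section p hp2 R hR hrank
  have hnot : ¬ ∀ w ∈ W, ⁅x, w⁆ ∈ Z := by
    intro hall
    have hxS : x ∈ sectionCent W Z := ⟨hNZ hx, hall⟩
    have h1 := hfaith (Subgroup.zpowers x) (by rw [Subgroup.zpowers_le]; exact hx)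
      (by rw [Nat.card_zpowers]; exact hcop)
      (fun a ha w hw => ((Subgroup.zpowers_le.2 hxS) ha).2 w hw)
    exact hxR ((Subgroup.le_centralizer_iff.1 h1) (Subgroup.mem_zpowers x))
  have hxqW : x ^ q ∈ Subgroup.centralizer (W : Set G) := Subgroup.centralizer_le hWR hxq
  rcases hcase with hidx | ⟨hZ, hW⟩
  · apply section_prime_dvd p W Z hZW (hWR.trans (Subgroup.le_normalizer.trans hNZ)) hcomm hexp hidx
      x (hNW hx) (hNZ hx) q hq _ hnot
    intro w hw
    have h2 : Commute (x ^ q) w := ((Subgroup.mem_centralizer_iff.1 hxqW) w hw).symm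
    rw [h2.commutator_eq]; exact Z.one_mem
  · have h1 : q ∣ p - 1 := by
      apply prime_dvd_pred_of_cyclic p W hW x (hNW hx) q hq hxqW
      intro hc
      apply hnot
      intro w hw
      have h2 : Commute x w := ((Subgroup.mem_centralizer_iff.1 hc) w hw).symm
      rw [h2.commutator_eq]; exact Z.one_mem
    apply Dvd.dvd.mul_right
    have h2 : p ^ 2 - 1 = (p + 1) * (p - 1) := by
      have := Nat.sq_sub_sq p 1
      rwa [one_pow] at this
    rw [h2]
    exact Dvd.dvd.mul_left h1 _

/-- Elements of odd order all of whose prime divisors exceed `r` centralize every `r`-group of rank at most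
2 that they normalize. -/
theorem mem_centralizer_of_large_primes [Finite G] (r : ℕ) [Fact r.Prime] (hr2 : r ≠ 2)
    (R : Subgroup G) (hR : IsPGroup r R)
    (hrank : ∀ F : Subgroup G, F ≤ R → IsMulCommutative F → (∀ a ∈ F, a ^ r = 1) → Nat.card F ≤ r ^ 2) :
    ∀ n : ℕ, ∀ x : G, orderOf x = n → x ∈ Subgroup.normalizer (R : Set G) → Odd n →
      (∀ q : ℕ, q.Prime → q ∣ n → r < q) → x ∈ Subgroup.centralizer (R : Set G) := by
  have hr : r.Prime := Fact.out
  intro n
  induction n using Nat.strong_induction_on with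
  | _ n ih =>
    intro x hxn hxN hodd hprimes
    by_cases hn1 : n = 1
    · rw [hn1, orderOf_eq_one_iff] at hxn
      rw [hxn]; exact Subgroup.one_mem _
    · have hq : (n.minFac).Prime := Nat.minFac_prime hn1
      have hqn : n.minFac ∣ n := Nat.minFac_dvd n
      set q := n.minFac with hqdef
      have hn0 : 0 < n := by rw [← hxn]; exact orderOf_pos x
      have hord : orderOf (x ^ q) = n / q := by
        rw [orderOf_pow_of_dvd hq.ne_zero (hxn ▸ hqn), hxn]
      have hlt : n / q < n := Nat.div_lt_self hn0 hq.one_lt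
      have hdvd : n / q ∣ n := Nat.div_dvd_of_dvd hqn
      have hxq := ih (n / q) hlt (x ^ q) hord (Subgroup.pow_mem _ hxN q) (Odd.of_dvd_nat hodd hdvd)
        (fun q' hq' hd => hprimes q' hq' (hd.trans hdvd))
      by_contra hxR
      have hcop : (orderOf x).Coprime r := by
        rw [hxn]
        apply Nat.Coprime.symm
        rw [Nat.Prime.coprime_iff_not_dvd hr]
        intro hd
        exact lt_irrefl r (hprimes r hr hd)
      have h1 := rank2_prime' r hr2 R hR hrank x hxN q hq hcop hxq hxR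
      have hrq := hprimes q hq hqn
      have h2 := lt_of_odd_prime_dvd hr hq (hr.odd_of_ne_two hr2) (Odd.of_dvd_nat hodd hqn) hrq.ne' h1
      omega

theorem pCore_two_eq_bot [Finite G] (hodd : Odd (Nat.card G)) : Cfsg.pCore 2 G = ⊥ := by
  haveI : Fact (2 : ℕ).Prime := ⟨Nat.prime_two⟩
  obtain ⟨n, hn⟩ := IsPGroup.iff_card.1 (Cfsg.Agent.Lib.Lead.pCore_isPGroup 2 G)
  have h1 : Odd (Nat.card (Cfsg.pCore 2 G)) := Odd.of_dvd_nat hodd (Subgroup.card_subgroup_dvd_card _)
  rw [hn] at h1
  rcases Nat.eq_zero_or_pos n with rfl | hpos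
  · rw [pow_zero] at hn; exact Subgroup.card_eq_one.1 hn
  · exfalso
    have : Even (2 ^ n) := (Nat.even_pow.2 ⟨even_two, hpos.ne'⟩)
    exact (Nat.not_even_iff_odd.2 h1) this

/-- If `x` centralizes every `O_q(G)` then it centralizes `F(G)`. -/
theorem mem_centralizer_fitting [Finite G] (x : G)
    (h : ∀ q : Nat.Primes, x ∈ Subgroup.centralizer (Cfsg.pCore (q : ℕ) G : Set G)) :
    x ∈ Subgroup.centralizer (Cfsg.fittingSubgroup G : Set G) := by
  have h1 : Cfsg.fittingSubgroup G ≤ Subgroup.centralizer ((Subgroup.zpowers x : Subgroup G) : Set G) := by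
    rw [Cfsg.Agent.Lib.Helper1.fittingSubgroup_eq_iSup_pCore]
    apply iSup_le
    intro q
    rw [Subgroup.le_centralizer_iff, Subgroup.zpowers_le]
    exact h q
  exact (Subgroup.le_centralizer_iff.1 h1) (Subgroup.mem_zpowers x)

/-- **Theorem.** Let `G` be a solvable group of odd order such that every `O_p(G)` has rank at most 2.
Then `G' ≤ F(G)`. -/
theorem commutator_le_fitting_of_rank2 [Finite G] [Group.IsSolvable G] (hodd : Odd (Nat.card G))
    (hrank : ∀ p : ℕ, p.Prime → ∀ F : Subgroup G, F ≤ Cfsg.pCore p G → IsMulCommutative F →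
      (∀ a ∈ F, a ^ p = 1) → Nat.card F ≤ p ^ 2) :
    commutator G ≤ Cfsg.fittingSubgroup G := by
  have hCF : Subgroup.centralizer (Cfsg.fittingSubgroup G : Set G) ≤ Cfsg.fittingSubgroup G :=
    Cfsg.Agent.S0044.result
  -- (1)
  have h1 : ∀ p : ℕ, p.Prime → ∀ x ∈ commutator G, ∃ k : ℕ,
      x ^ p ^ k ∈ Subgroup.centralizer (Cfsg.pCore p G : Set G) := by
    intro p hp x hx
    haveI : Fact p.Prime := ⟨hp⟩
    by_cases hp2 : p = 2
    · subst hp2
      refine ⟨0, ?_⟩
      rw [pCore_two_eq_bot hodd, Subgroup.coe_bot, Subgroup.centralizer_eq_top_iff_subset.2]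
      · trivial
      · intro y hy
        rw [Set.mem_singleton_iff.1 hy]; exact Subgroup.one_mem _
    · exact rank2_commutator p hp2 (Cfsg.pCore p G) ⊤ (Cfsg.Agent.Lib.Lead.pCore_isPGroup p G)
        (hrank p hp) (by rw [Subgroup.normalizer_eq_top])
        (by rw [Nat.card_congr Subgroup.topEquiv.toEquiv]; exact hodd) inferInstance x hx
  -- (2)
  have h2 : ∀ r : ℕ, r.Prime → ∀ p : ℕ, p.Prime → p ≠ r → ∀ x ∈ commutator G, ∀ j : ℕ,
      x ^ r ^ j = 1 → x ∈ Subgroup.centralizer (Cfsg.pCore p G : Set G) := by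
    intro r hr p hp hpr x hx j hxj
    obtain ⟨k, hk⟩ := h1 p hp x hx
    apply mem_of_pow_mem_of_coprime _ x _ hk
    have h3 : orderOf x ∣ r ^ j := orderOf_dvd_of_pow_eq_one hxj
    exact Nat.Coprime.of_dvd_right h3 (Nat.Coprime.pow _ _ ((Nat.coprime_primes hp hr).2 hpr))
  -- (3)
  have h3 : ∀ p : ℕ, p.Prime → ∀ x ∈ commutator G, ∀ j : ℕ, x ^ p ^ j = 1 →
      x ∈ Cfsg.fittingSubgroup G := by
    intro p hp x hx j hxj
    haveI : Fact p.Prime := ⟨hp⟩
    set M : Subgroup G := commutator G ⊓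
      ⨅ q : {q : Nat.Primes // (q : ℕ) ≠ p}, Subgroup.centralizer (Cfsg.pCore (q : ℕ) G : Set G) with hM
    have hMchar : M.Characteristic := inferInstance
    have hMn : M.Normal := inferInstance
    have hMD : M ≤ commutator G := inf_le_left
    have hMC : ∀ q : ℕ, q.Prime → q ≠ p → M ≤ Subgroup.centralizer (Cfsg.pCore q G : Set G) := by
      intro q hq hqp
      exact inf_le_right.trans (iInf_le
        (fun q : {q : Nat.Primes // (q : ℕ) ≠ p} =>
          Subgroup.centralizer (Cfsg.pCore (q : ℕ) G : Set G)) ⟨⟨q, hq⟩, hqp⟩)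
    have hxM : x ∈ M := by
      rw [hM, Subgroup.mem_inf]
      refine ⟨hx, ?_⟩
      rw [Subgroup.mem_iInf]
      rintro ⟨q, hq⟩
      exact h2 p hp q q.2 hq x hx j hxj
    have hcentral : ∀ r : ℕ, r.Prime → r ≠ p → ∀ y ∈ M, ∀ i : ℕ, y ^ r ^ i = 1 →
        ∀ m ∈ M, Commute y m := by
      intro r hr hrp y hy i hyi m hm
      haveI : Fact r.Prime := ⟨hr⟩
      have hyF : y ∈ Cfsg.fittingSubgroup G := by
        apply hCF
        apply mem_centralizer_fitting
        intro q
        by_cases hq : (q : ℕ) = p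
        · rw [hq]
          exact h2 r hr p hp hrp.symm y (hMD hy) i hyi
        · exact hMC q q.2 hq hy
      have hyr := mem_pCore_of_mem_fitting r y hyF i hyi
      exact (Subgroup.mem_centralizer_iff.1 (hMC r hr hrp hm)) y hyr
    have hMnil : Group.IsNilpotent M := by
      apply Group.of_quotient_center_nilpotent
      have hcard : Nat.card (↥M ⧸ Subgroup.center ↥M) =
          p ^ (Nat.card (↥M ⧸ Subgroup.center ↥M)).primeFactorsList.length := by
        apply Nat.eq_prime_pow_of_unique_prime_dvd Nat.card_pos.ne'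
        intro r hr hrd
        by_contra hrp
        haveI : Fact r.Prime := ⟨hr⟩
        let S : Sylow r ↥M := default
        have hS : (S : Subgroup ↥M) ≤ Subgroup.center ↥M := by
          intro y hy
          rw [Subgroup.mem_center_iff]
          intro m
          obtain ⟨i, hi⟩ := S.2 ⟨y, hy⟩
          have hi' : (y : G) ^ r ^ i = 1 := by
            have := congrArg (fun z : (S : Subgroup ↥M) => ((z : ↥M) : G)) hi
            simpa using this
          apply Subtype.ext
          exact (hcentral r hr hrp y y.2 i hi' m m.2).symm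
        rw [← Subgroup.index_eq_card] at hrd
        exact S.not_dvd_index (hrd.trans (Subgroup.index_dvd_of_le hS))
      exact (IsPGroup.of_card hcard).isNilpotent
    exact Cfsg.Agent.Lib.Helper1.le_fittingSubgroup hMn hMnil hxM
  -- (4)
  intro x hx
  apply Cfsg.Agent.Lib.Helper71.mem_of_forall_sylow_pow_index_mem
  intro p _ P
  obtain ⟨k, hk⟩ := IsPGroup.iff_card.1 P.2
  apply h3 p Fact.out _ (Subgroup.pow_mem _ hx _) k
  rw [← pow_mul, ← hk, mul_comm, Subgroup.card_mul_index]
  exact pow_card_eq_one'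

/-- `N_G(S)` normalizes every characteristic subgroup of `S`. -/
theorem normalizer_le_normalizer_map_of_characteristic (S : Subgroup G) (T : Subgroup S)
    [hT : T.Characteristic] :
    Subgroup.normalizer (S : Set G) ≤ Subgroup.normalizer ((T.map S.subtype : Subgroup G) : Set G) := by
  rw [Subgroup.le_normalizer_iff]
  rintro g hg _ ⟨t, ht, rfl⟩
  let φ : S ≃* S :=
    { toFun := conjOn S g hg
      invFun := conjOn S g⁻¹ (Subgroup.inv_mem _ hg)
      left_inv := fun x => by apply Subtype.ext; simp [conjOn, mul_assoc]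
      right_inv := fun x => by apply Subtype.ext; simp [conjOn, mul_assoc]
      map_mul' := map_mul _ }
  have h1 : φ.toMonoidHom t ∈ T := (Subgroup.characteristic_iff_map_le.1 hT φ) ⟨t, ht, rfl⟩
  exact ⟨φ.toMonoidHom t, h1, rfl⟩

theorem pCore_le_centralizer_pCore [Finite G] {r q : ℕ} (hr : r.Prime) (hq : q.Prime) (hrq : r ≠ q) :
    Cfsg.pCore r G ≤ Subgroup.centralizer (Cfsg.pCore q G : Set G) := by
  haveI : Fact r.Prime := ⟨hr⟩
  haveI : Fact q.Prime := ⟨hq⟩
  intro x hx
  rw [Subgroup.mem_centralizer_iff]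
  intro y hy
  exact Subgroup.commute_of_normal_of_disjoint _ _ inferInstance inferInstance
    (IsPGroup.disjoint_of_ne q r hrq.symm _ _ (Cfsg.Agent.Lib.Lead.pCore_isPGroup q G)
      (Cfsg.Agent.Lib.Lead.pCore_isPGroup r G)) y x hy hx

/-- If `G' ≤ F(G)`, then characteristic subgroups of a Sylow subgroup `S` contained in `S'` are normal. -/
theorem normal_of_char_le_commutator_sylow [Finite G]
    (hDF : commutator G ≤ Cfsg.fittingSubgroup G) (q : ℕ) [Fact q.Prime] (S : Sylow q G)
    (T : Subgroup ↥(S : Subgroup G)) [T.Characteristic]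
    (hT : T.map (S : Subgroup G).subtype ≤ ⁅(S : Subgroup G), (S : Subgroup G)⁆) :
    (T.map (S : Subgroup G).subtype).Normal := by
  have hq : q.Prime := Fact.out
  set T' := T.map (S : Subgroup G).subtype with hT'
  have hT'S : T' ≤ S := Subgroup.map_subtype_le _
  have hT'q : T' ≤ Cfsg.pCore q G := by
    intro x hx
    obtain ⟨k, hk⟩ := S.2 ⟨x, hT'S hx⟩
    apply mem_pCore_of_mem_fitting q x _ k (congrArg Subtype.val hk)
    apply hDF
    exact (Subgroup.commutator_mono le_top le_top) (hT hx)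
  have hNS : Subgroup.normalizer ((S : Subgroup G) : Set G) ≤ Subgroup.normalizer (T' : Set G) :=
    normalizer_le_normalizer_map_of_characteristic _ T
  have hS : (S : Subgroup G) ≤ Subgroup.normalizer (T' : Set G) := Subgroup.le_normalizer.trans hNS
  have hF : Cfsg.fittingSubgroup G ≤ Subgroup.normalizer (T' : Set G) := by
    rw [Cfsg.Agent.Lib.Helper1.fittingSubgroup_eq_iSup_pCore]
    apply iSup_le
    intro r
    by_cases hrq : (r : ℕ) = q
    · rw [hrq]
      exact (Cfsg.Agent.Lib.Lead.pCore_le_sylow S).trans hS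
    · exact ((pCore_le_centralizer_pCore r.2 hq hrq).trans (Subgroup.centralizer_le hT'q)).trans
        (centralizer_le_normalizer' _)
  set K : Subgroup G := commutator G ⊔ S with hK
  haveI hKn : K.Normal := Subgroup.Normal.of_commutator_le G le_sup_left
  have hfr := Sylow.normalizer_sup_eq_top (S.subtype (le_sup_right : (S : Subgroup G) ≤ K))
  rw [Sylow.coe_subtype, Subgroup.map_subgroupOf_eq_of_le le_sup_right] at hfr
  rw [← Subgroup.normalizer_eq_top_iff, eq_top_iff, ← hfr]
  exact sup_le hNS (sup_le (hDF.trans hF) hS)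

/-- Characteristic Hall subgroups for the primes greater than `p`. -/
theorem exists_char_hall_of_rank2 [Finite G] [Group.IsSolvable G] (hodd : Odd (Nat.card G))
    (hrank : ∀ p : ℕ, p.Prime → ∀ F : Subgroup G, F ≤ Cfsg.pCore p G → IsMulCommutative F →
      (∀ a ∈ F, a ^ p = 1) → Nat.card F ≤ p ^ 2) (p : ℕ) :
    ∃ N : Subgroup G, N.Characteristic ∧ Cfsg.IsPiHall {q | q.Prime ∧ p < q} N := by
  have hDF := commutator_le_fitting_of_rank2 hodd hrank
  obtain ⟨H, hH⟩ := exists_isPiHall (G := G) {q | q.Prime ∧ p < q}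
  have hcop := IsPiHall.coprime_card_index hH
  have hord : ∀ h ∈ H, orderOf h ∣ Nat.card H := by
    intro h hh
    have := orderOf_dvd_natCard (⟨h, hh⟩ : H)
    rwa [← Subgroup.orderOf_coe] at this
  have c1 : ∀ r : ℕ, r.Prime → r ≤ p → H ≤ Subgroup.centralizer (Cfsg.pCore r G : Set G) := by
    intro r hr hrp h hh
    haveI : Fact r.Prime := ⟨hr⟩
    by_cases hr2 : r = 2
    · subst hr2
      rw [pCore_two_eq_bot hodd, Subgroup.coe_bot, Subgroup.centralizer_eq_top_iff_subset.2]
      · trivial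
      · intro y hy
        rw [Set.mem_singleton_iff.1 hy]; exact Subgroup.one_mem _
    · apply mem_centralizer_of_large_primes r hr2 (Cfsg.pCore r G)
        (Cfsg.Agent.Lib.Lead.pCore_isPGroup r G) (hrank r hr) (orderOf h) h rfl
        (by rw [Subgroup.normalizer_eq_top]; trivial)
        (Odd.of_dvd_nat hodd (orderOf_dvd_natCard h))
      intro q hq hqd
      exact lt_of_le_of_lt hrp (hH.1 q hq (hqd.trans (hord h hh))).2
  have c2 : ∀ r : ℕ, r.Prime → p < r → Cfsg.pCore r G ≤ H := by
    intro r hr hpr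
    haveI : Fact r.Prime := ⟨hr⟩
    rw [← Subgroup.relIndex_eq_one]
    have d1 := Cfsg.Agent.Lib.Helper71.relIndex_dvd_index_of_normal_right H (Cfsg.pCore r G)
    have d2 : H.relIndex (Cfsg.pCore r G) ∣ Nat.card (Cfsg.pCore r G) := Subgroup.relIndex_dvd_card _ _
    obtain ⟨k, hk⟩ := IsPGroup.iff_card.1 (Cfsg.Agent.Lib.Lead.pCore_isPGroup r G)
    rw [hk] at d2
    have d3 : (H.index).Coprime (r ^ k) :=
      Nat.Coprime.pow_right k ((Nat.Prime.coprime_iff_not_dvd hr).2 (hH.2 r hr ⟨hr, hpr⟩)).symm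
    exact Nat.eq_one_of_dvd_coprimes d3 d1 d2
  have c3 : Cfsg.fittingSubgroup G ≤ Subgroup.normalizer (H : Set G) := by
    rw [Cfsg.Agent.Lib.Helper1.fittingSubgroup_eq_iSup_pCore]
    apply iSup_le
    intro r
    by_cases hrp : (r : ℕ) ≤ p
    · exact (Subgroup.le_centralizer_iff.1 (c1 r r.2 hrp)).trans (centralizer_le_normalizer' _)
    · exact (c2 r r.2 (not_le.1 hrp)).trans Subgroup.le_normalizer
  haveI c4 : H.Normal := by
    refine ⟨fun h hh g => ?_⟩
    apply mem_of_mem_normalizer_of_coprime_index H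
    · have e : g * h * g⁻¹ = ⁅g, h⁆ * h := by rw [commutatorElement_def]; group
      rw [e]
      apply Subgroup.mul_mem _ _ (Subgroup.le_normalizer hh)
      apply c3
      apply hDF
      exact Subgroup.commutator_mem_commutator (Subgroup.mem_top g) (Subgroup.mem_top h)
    · have e : orderOf (g * h * g⁻¹) = orderOf h := (MulAut.conj g).orderOf_eq h
      rw [e]
      exact (Nat.Coprime.of_dvd_left (hord h hh) hcop).symm
  exact ⟨H, characteristic_of_normal_of_coprime H hcop, hH⟩

end Cfsg.Agent.Lib.Helper24
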