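/-
Helper library (helper24): adapter between Step 3 (`exists_good`) and helper10's Step 4/5 of the proof
of BG Lemma 9.5 (S1402), and the final statement.
-/
import Cfsg.Agent.Lib.Helper24.U95b
import Cfsg.Agent.Lib.Helper10.BG95c
import Cfsg.Agent.Lib.Helper10.BG95z

set_option autoImplicit false
set_option linter.unusedSimpArgs false
set_option linter.unusedVariables false
set_option linter.unusedSectionVars false
set_option linter.style.haveILetI false

namespace Cfsg.Agent.Lib.Helper24.U95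

open Subgroup Cfsg
open Cfsg.Agent.Lib.Helper22 Cfsg.Agent.Lib.Helper22.BG Cfsg.Agent.Lib.Helper23
open Cfsg.Agent.Lib.Helper10.BG95
open scoped commutatorElement

variable {G : Type*} [Group G] [Finite G] {p : ℕ} [hp : Fact p.Prime] {P A : Subgroup G}

theorem exists_order_eq {s : ℕ} [Fact s.Prime] {W : Subgroup G} (hW : IsPGroup s W) (hne : W ≠ ⊥) :
    ∃ w ∈ W, orderOf w = s := by
  obtain ⟨z, hz, -, hz1, hzs⟩ := Cfsg.Agent.Lib.Helper24.exists_central_order_p hW hne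
  exact ⟨z, hz, orderOf_eq_prime hzs hz1⟩

theorem exists_Good (C : Ctx p P A) (hnot : ¬ InUniqueMaximal A) {E : Subgroup G} (hEA : E ≤ A)
    (hEp : ∀ a ∈ E, a ^ p = 1) (hE3 : Nat.card E = p ^ 3) {H : Subgroup G} (hH : IsCoatom H)
    (hAH : A ≤ ⁅H, H⁆) : ∃ (s : ℕ) (S : Subgroup G), Good p A E H S s := by
  obtain ⟨s, S, hs, hsp, hSs, hHS, hSH, huniq, hCA, hall, hb2, hc1⟩ :=
    Cfsg.Agent.Lib.Helper24.exists_good C hnot hEA hEp hE3 hH hAH
  have hAH' : A ≤ H := hAH.trans (commutator_le_self H)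
  refine ⟨s, S, hH, hs, hsp, hAH', hSs, hAH'.trans hHS, huniq, hCA, hall, ?_⟩
  intro x hxE hx1 hXH hYne W hWne hWs hAW hWX
  have : Fact s.Prime := ⟨hs⟩
  set X := centralizer ({x} : Set G) with hX
  have hXne : X ≠ ⊤ := centralizer_ne_top C.hG hx1
  have hAX : A ≤ X := by
    intro a ha
    rw [hX, mem_centralizer_singleton_iff]
    exact (mem_centralizer_iff.mp (C.comm ha) x (hEA hxE)).symm
  set D := piCoreOf (primesNotDvd (Nat.card A)) X with hD
  have hDX : D ≤ X := Helper22.piCoreOf_le _ _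
  have hAD : A ≤ normalizer (D : Set G) := hAX.trans (Helper22.le_normalizer_piCoreOf _ _)
  have hpD : ¬ p ∣ Nat.card D := fun hd => (Helper22.piCoreOf_primes _ _ p hp.out hd).2 C.p_dvd
  have hle : ∀ {U : Subgroup G}, IsPGroup s U → U ≤ X →
      A ≤ normalizer (U : Set G) → U ≤ D := by
    intro U hU hUX hAU
    apply TransHyp.le_piCoreOf C.trans hXne hAX hUX _ hAU
    intro q hq hd
    have := primes_of_isPGroup hs hU q hq hd
    rw [Set.mem_singleton_iff] at this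
    subst this
    exact ⟨hq, C.not_dvd hq hsp⟩
  have hAY : A ≤ normalizer ((S ⊓ X : Subgroup G) : Set G) :=
    le_normalizer_inf (hAH'.trans hHS) (hAX.trans le_normalizer)
  have hYD : S ⊓ X ≤ D := hle (hSs.to_le inf_le_left) inf_le_right hAY
  have hWD : W ≤ D := hle hWs hWX hAW
  obtain ⟨T1, hT1, hAT1, hYT1⟩ := exists_invariant_isSylowIn_ge A D C.pA hpD hAD s (S ⊓ X)
    (hSs.to_le inf_le_left) hYD hAY
  obtain ⟨T2, hT2, hAT2, hWT2⟩ := exists_invariant_isSylowIn_ge A D C.pA hpD hAD s W hWs hWD hAW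
  obtain ⟨c, hc, hcT⟩ := hT1.exists_conj_centralizer C.pA hpD hAD hT2 hAT1 hAT2
  have hcH : c ∈ H := hCA hc.2
  have hT2H : T2 ≤ H := hall T2 hT2.isPGroup hAT2
  have hT2c : IsCyclic T2 := by
    by_contra hnc
    exact hXH (hb2 x hxE hx1 T2 hT2.isPGroup hnc hT2H (hT2.le.trans hDX))
  obtain ⟨w, hwW, hwo⟩ := exists_order_eq hWs hWne
  obtain ⟨y, hyY, hyo⟩ := exists_order_eq (hSs.to_le (inf_le_left : S ⊓ X ≤ S)) hYne
  have hy'T2 : c * y * c⁻¹ ∈ T2 := by
    rw [← hcT]; exact ⟨y, hYT1 hyY, rfl⟩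
  have hy'S : c * y * c⁻¹ ∈ S := (mem_normalizer_iff.1 (hHS hcH) y).1 hyY.1
  have hy'o : orderOf (c * y * c⁻¹) = s := by
    rw [← hyo]
    exact orderOf_injective (MulAut.conj c).toMonoidHom (MulAut.conj c).injective y
  have hws : w ^ s = 1 := by rw [← hwo]; exact pow_orderOf_eq_one w
  have h1 : w ∈ zpowers (c * y * c⁻¹) :=
    Cfsg.Agent.Lib.Helper24.mem_zpowers_of_isCyclic hT2c hs hy'T2 (hWT2 hwW) hy'o hws
  have hw1 : w ≠ 1 := by
    intro h
    rw [h, orderOf_one] at hwo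
    exact hs.one_lt.ne hwo
  have hΩ : normalizer ((zpowers w : Subgroup G) : Set G) ≤ H :=
    hc1 (zpowers w) (fun h => hw1 (zpowers_eq_bot.1 h))
      (zpowers_le.2 ((zpowers_le.2 hy'S) h1))
  refine le_trans ?_ hΩ
  rw [le_normalizer_iff]
  intro g hg h hh
  obtain ⟨k, rfl⟩ := mem_zpowers_iff.1 hh
  have h2 : g * w * g⁻¹ ∈ W := (mem_normalizer_iff.1 hg w).1 hwW
  have h3 : g * w * g⁻¹ ∈ zpowers w :=
    Cfsg.Agent.Lib.Helper24.mem_zpowers_of_isCyclic hT2c hs (hWT2 hwW) (hWT2 h2) hwo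
      (by rw [conj_pow, hws]; group)
  rw [← conj_zpow]
  exact zpow_mem h3 k

theorem exists_E (C : Ctx p P A) : ∃ E ≤ A, (∀ x ∈ E, x ^ p = 1) ∧ Nat.card E = p ^ 3 := by
  obtain ⟨F, hFA, hFc, hFp, hcard⟩ := Cfsg.Agent.Lib.Helper24.exists_of_not_pRankLE C.rk
  have h3 : p ^ 3 ∣ Nat.card F := by
    obtain ⟨n, hn⟩ := IsPGroup.iff_card.1 (Cfsg.Agent.Lib.Helper24.isPGroup_of_exponent hFp)
    rw [hn] at hcard ⊢
    exact pow_dvd_pow p ((Nat.pow_lt_pow_iff_right hp.out.one_lt).1 hcard)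
  obtain ⟨K, hK⟩ := Sylow.exists_subgroup_card_pow_prime p h3
  refine ⟨K.map F.subtype, (map_subtype_le K).trans hFA, ?_, ?_⟩
  · rintro _ ⟨x, hx, rfl⟩
    exact hFp _ x.2
  · rw [card_map_of_injective F.subtype_injective, hK]

/-- **BG Lemma 9.5.** -/
theorem scn3_uniq (C : Ctx p P A) : InUniqueMaximal A := by
  by_contra hnot
  apply hnot
  obtain ⟨E, hEA, hEp, hE3⟩ := exists_E C
  apply C.uniq_of_key
  intro H H' hH hH' hAH hAH'
  obtain ⟨s, S, hg⟩ := exists_Good C hnot hEA hEp hE3 hH hAH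
  obtain ⟨t, S', hg'⟩ := exists_Good C hnot hEA hEp hE3 hH' hAH'
  exact C.key_of_good hEA hEp hE3 hg hg'

end Cfsg.Agent.Lib.Helper24.U95
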